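/-
The two extensions of the Witt design on 22 points and an element exchanging them; the checks of the chain.
-/
import Cfsg.Agent.Lib.StCert.W24
import Cfsg.Agent.Lib.StCert.AutChain

set_option autoImplicit false
set_option maxRecDepth 100000

namespace CfsgLib.StCert.W24

open Cfsg CfsgLib.Golay CfsgLib.StCert
open scoped Pointwise

def D23x : List ℕ := [2639, 7888, 9073, 19628, 22579, 26002, 28941, 34697, 37654, 47656, 49514, 59476, 66908, 70083, 76898, 87840, 92801, 100506, 105477, 106916, 131318, 136297, 141768, 149013, 152202, 167216, 173070, 176273, 209476, 215302, 221240, 229923, 246976, 265122, 271004, 275971, 281921, 291040, 296548, 311431, 316440, 328881, 331822, 342288, 344658, 368713, 393499, 398724, 403493, 432194, 451328, 462344, 526741, 531722, 532651, 537652, 550472, 558163, 561356, 574128, 591494, 594457, 606309, 625472, 651266, 656172, 666130, 676176, 706569, 727200, 730369, 788600, 794950, 809476, 823585, 830592, 868744, 918209, 934946, 1015828, 1055076, 1057989, 1060954, 1067800, 1073702, 1081405, 1086626, 1091843, 1102401, 1114856, 1131531, 1134740, 1156624,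 1181506, 1196449, 1211392, 1215108, 1247313, 1282312, 1313814, 1317001, 1320232, 1343952, 1377029, 1427488, 1446448, 1458252, 1515650, 1576481, 1586048, 1591490, 1623300, 1638706, 1648652, 1705112, 1708039, 1744992, 1859601, 1868298, 1905728, 2098471, 2101688, 2108441, 2111622, 2114500, 2132193, 2143552, 2149890, 2165300, 2171658, 2185288, 2212113, 2235137, 2238112, 2252867, 2261592, 2281508, 2293901, 2298898, 2360522, 2363477, 2376233, 2394380, 2400306, 2450436, 2462336, 2508944, 2556256, 2626146, 2637854, 2643073, 2648352, 2662917, 2695376, 2720808, 2755652, 2785666, 2885392, 2951171, 3026952, 3146387, 3151372, 3163248, 3203208, 3214720, 3223585, 3244102, 3278890, 3285268, 3418688, 3428610, 3572737, 3670345, 3708944, 3883520, 3932324, 4195898, 4199077, 4206340, 4210905, 4215878, 4235970, 4249984, 4252705, 4262185, 4268055, 4273288, 4296816, 4309516, 4328579, 4331548, 4337954, 4344416, 4358469, 4391824, 4461384, 4473140, 4483082, 4491793, 4524228, 4556034, 4596816, 4620456, 4673537, 4720096, 4732993, 4735747, 4753446, 4759832, 4803600, 4874372, 4888064, 4915274, 4981773, 4984978,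 5055008, 5243278, 5248273, 5253296, 5278792, 5315074, 5333312, 5382665, 5423122, 5440548, 5505123, 5523072, 5550084, 5767764, 5787688, 5865601, 6162688, 6293842, 6299756, 6320656, 6325396, 6328331, 6358593, 6373538, 6440200, 6531072, 6560800, 6562177, 6685190, 6818440, 6885636, 6946865, 7127104, 7358469, 7373600, 7475392, 7667736, 7873538]

def tau : ℕ := 984559605201643556388724194490288160


theorem tau_chk : leafOK 22 tau D22 D22 = true := by decide +kernel

theorem tau_chk2 : leafOK 23 tau D23 D23x = true := by decide +kernel

theorem D23_ne : D23 ≠ D23x := by decide +kernel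

theorem lt_E24 : (E24.all fun m => Nat.blt m (2 ^ 24)) = true := by decide +kernel
theorem lt_D23 : (D23.all fun m => Nat.blt m (2 ^ 23)) = true := by decide +kernel
theorem lt_D22 : (D22.all fun m => Nat.blt m (2 ^ 22)) = true := by decide +kernel
theorem lt_D23x : (D23x.all fun m => Nat.blt m (2 ^ 23)) = true := by decide +kernel

theorem der23 : Der 23 (setOf E24) = setOf D23 :=
  der_setOf (by norm_num) (fun m hm => by simpa [Nat.blt] using List.all_eq_true.mp lt_E24 m hm) (by decide +kernel)

theorem der22 : Der 22 (setOf D23) = setOf D22 :=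
  der_setOf (by norm_num) (fun m hm => by simpa [Nat.blt] using List.all_eq_true.mp lt_D23 m hm) (by decide +kernel)

theorem der21 : Der 21 (setOf D22) = setOf D21 :=
  der_setOf (by norm_num) (fun m hm => by simpa [Nat.blt] using List.all_eq_true.mp lt_D22 m hm) (by decide +kernel)

set_option maxHeartbeats 0 in
theorem uniq24 : ∀ B, St 5 8 24 B → (∀ l ∈ D23.map (addBit 23), fs l ∈ B) → B = setOf E24 :=
  uniq_of_run (by norm_num) (by norm_num) St_E24.cov (cert := c24) (by decide +kernel)

theorem St_D23x : St 4 7 23 (setOf D23x) := St_of_list (by norm_num) (by decide +kernel)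

set_option maxHeartbeats 0 in
theorem exts23 : ∀ B, St 4 7 23 B → (∀ l ∈ D22.map (addBit 22), fs l ∈ B) → B = setOf D23 ∨ B = setOf D23x := by
  intro B hB hL
  obtain ⟨A, hA, hAe⟩ := exts_of_run (t := 4) (k := 7) (n := 23) (allowed := [D23, D23x]) (cert := c23) (by norm_num) (by norm_num)
    (fun A hA => by
      simp only [List.mem_cons, List.not_mem_nil, or_false] at hA
      rcases hA with rfl | rfl
      · exact St_D23.cov
      · exact St_D23x.cov) (by decide +kernel) hB hL
  simp only [List.mem_cons, List.not_mem_nil, or_false] at hA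
  rcases hA with rfl | rfl
  · exact Or.inl hAe
  · exact Or.inr hAe

end CfsgLib.StCert.W24
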