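/-
The chain of Steiner systems from the affine plane of order three up to S(5, 6, 12): checked search.
-/
import Cfsg.Agent.Lib.StCert.Fast

set_option autoImplicit false
set_option maxRecDepth 100000

namespace CfsgLib.StCert.M12

open Cfsg CfsgLib.Golay CfsgLib.StCert

def D9 : List ℕ := [14, 25, 37, 84, 98, 131, 176, 200, 274, 296, 321, 388]

def D10 : List ℕ := [23, 58, 75, 108, 113, 156, 166, 169, 197, 210, 269, 291, 308, 326, 344, 394, 401, 480, 526, 537, 549, 596, 610, 643, 688, 712, 786, 808, 833, 900]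

def D11 : List ℕ := [47, 93, 118, 155, 181, 206, 227, 248, 286, 313, 339, 357, 362, 391, 428, 434, 457, 468, 563, 572, 583, 602, 617, 653, 662, 682, 721, 740, 779, 789, 806, 844, 880, 920, 929, 962, 1047, 1082, 1099, 1132, 1137, 1180, 1190, 1193, 1221, 1234, 1293, 1315, 1332, 1350, 1368, 1418, 1425, 1504, 1550, 1561, 1573, 1620, 1634, 1667, 1712, 1736, 1810, 1832, 1857, 1924]

def B12 : List ℕ := [123, 190, 215, 237, 311, 335, 380, 413, 427, 474, 486, 497, 543, 622, 629, 679, 697, 715, 732, 754, 813, 826, 854, 857, 867, 910, 915, 948, 965, 1000, 1085, 1118, 1127, 1167, 1203, 1241, 1258, 1268, 1307, 1326, 1365, 1385, 1394, 1430, 1445, 1464, 1475, 1484, 1579, 1590, 1613, 1619, 1656, 1685, 1690, 1708, 1734, 1761, 1799, 1820, 1841, 1866, 1892, 1929, 1954, 2000, 2095, 2141, 2166, 2203, 2229, 2254, 2275, 2296, 2334, 2361, 2387, 2405, 2410, 2439, 2476, 2482, 2505, 2516, 2611, 2620, 2631, 2650, 2665, 2701, 2710, 2730, 2769, 2788, 2827, 2837, 2854, 2892, 2928, 2968, 2977, 3010, 3095, 3130, 3147, 3180, 3185,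 3228, 3238, 3241, 3269, 3282, 3341, 3363, 3380, 3398, 3416, 3466, 3473, 3552, 3598, 3609, 3621, 3668, 3682, 3715, 3760, 3784, 3858, 3880, 3905, 3972]

def c9n0 : SC := .pick 130 (.dead)

def c9n1 : SC := .pick 132 (.dead)

def c9n2 : SC := .pick 136 (.dead)

def c9n3 : SC := .pick 36 (.expl 164 (c9n2) (.dead))

def c9n4 : SC := .pick 20 (.expl 52 (c9n1) (.expl 276 (c9n3) (.dead)))

def c9n5 : SC := .pick 72 (.dead)

def c9n6 : SC := .pick 68 (.expl 196 (c9n5) (.dead))

def c9n7 : SC := .pick 48 (.expl 304 (.leaf 984818244535754528103549002885176352) (.dead))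

def c9n8 : SC := .pick 72 (.expl 200 (c9n7) (.dead))

def c9n9 : SC := .pick 36 (.expl 164 (c9n8) (.dead))

def c9n10 : SC := .pick 20 (.expl 52 (c9n6) (.expl 84 (c9n9) (.dead)))

def c9n11 : SC := .pick 12 (.expl 76 (c9n4) (.sym 140 984818244535754528103544505148573728 76 (.expl 268 (c9n10) (.dead))))

def c9n12 : SC := .pick 66 (.expl 322 (c9n11) (.dead))

def c9n13 : SC := .pick 18 (.expl 82 (c9n0) (.expl 146 (c9n12) (.sym 274 984818244535754528103547974306596896 146 (.dead))))

def c9n14 : SC := .pick 10 (.expl 42 (c9n13) (.sym 74 984818244535754528103549038418298912 42 (.sym 138 984818244535754528103546773930346528 42 (.sym 266 984818244535754528103545708778457120 42 (.dead)))))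

def c9n15 : SC := .pick 129 (.expl 385 (c9n14) (.dead))

def c9n16 : SC := .pick 33 (.expl 97 (c9n15) (.sym 161 984818244535754528103549006172489760 97 (.sym 289 984818244535754528103546875868710944 97 (.dead))))

def c9n17 : SC := .pick 9 (.expl 25 (c9n16) (.sym 41 984818244535754528103549039425980448 25 (.sym 73 984818244535754528103549037345605664 25 (.sym 137 984818244535754528103548937487616032 25 (.sym 265 984818244535754528103544676880058400 25 (.dead))))))

def c9n18 : SC := .pick 3 (.expl 7 (c9n17) (.sym 11 984818244535754528103549039458454560 7 (.sym 19 984818244535754528103549039456422944 7 (.sym 35 984818244535754528103549039358905376 7 (.sym 67 984818244535754528103549035198155808 7 (.sym 131 984818244535754528103548868768173088 7 (.sym 259 984818244535754528103542477856836640 7 (.dead))))))))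

def c9 : SC := c9n18

def c10n0 : SC := .pick 67 (.dead)

def c10n1 : SC := .pick 69 (.dead)

def c10n2 : SC := .pick 224 (.expl 480 (.leaf 984818244535754528103549039458486304) (.dead))

def c10n3 : SC := .pick 88 (.expl 344 (c10n2) (.dead))

def c10n4 : SC := .pick 52 (.expl 308 (c10n3) (.dead))

def c10n5 : SC := .pick 44 (.expl 108 (c10n4) (.dead))

def c10n6 : SC := .pick 28 (.expl 156 (c10n5) (.dead))

def c10n7 : SC := .pick 82 (.expl 210 (c10n6) (.dead))

def c10n8 : SC := .pick 138 (.expl 394 (c10n7) (.dead))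

def c10n9 : SC := .pick 42 (.dead)

def c10n10 : SC := .pick 26 (.expl 58 (c10n8) (.expl 154 (c10n9) (.dead)))

def c10n11 : SC := .pick 70 (.expl 326 (c10n10) (.dead))

def c10n12 : SC := .pick 38 (.expl 166 (c10n11) (.dead))

def c10n13 : SC := .pick 145 (.expl 401 (c10n12) (.dead))

def c10n14 : SC := .pick 49 (.expl 113 (c10n13) (.dead))

def c10n15 : SC := .pick 41 (.expl 169 (c10n14) (.dead))

def c10n16 : SC := .pick 69 (.expl 197 (c10n15) (.dead))

def c10n17 : SC := .pick 13 (.expl 141 (c10n1) (.expl 269 (c10n16) (.dead)))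

def c10n18 : SC := .pick 35 (.expl 291 (c10n17) (.dead))

def c10n19 : SC := .pick 35 (.dead)

def c10n20 : SC := .pick 11 (.expl 43 (c10n0) (.expl 75 (c10n18) (.expl 267 (c10n19) (.dead))))

def c10n21 : SC := .pick 19 (.dead)

def c10n22 : SC := .pick 112 (.expl 368 (.leaf 984818244535754528103478737318873120) (.dead))

def c10n23 : SC := .pick 152 (.expl 408 (c10n22) (.dead))

def c10n24 : SC := .pick 100 (.expl 228 (c10n23) (.dead))

def c10n25 : SC := .pick 76 (.expl 332 (c10n24) (.dead))

def c10n26 : SC := .pick 28 (.expl 60 (c10n25) (.dead))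

def c10n27 : SC := .pick 194 (.expl 450 (c10n26) (.dead))

def c10n28 : SC := .pick 42 (.expl 170 (c10n27) (.dead))

def c10n29 : SC := .pick 26 (.expl 90 (c10n28) (.dead))

def c10n30 : SC := .pick 38 (.expl 294 (c10n29) (.dead))

def c10n31 : SC := .pick 22 (.expl 150 (c10n30) (.dead))

def c10n32 : SC := .pick 161 (.expl 417 (c10n31) (.dead))

def c10n33 : SC := .pick 81 (.expl 209 (c10n32) (.dead))

def c10n34 : SC := .pick 41 (.expl 105 (c10n33) (.dead))

def c10n35 : SC := .pick 21 (.expl 277 (c10n34) (.dead))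

def c10n36 : SC := .pick 13 (.expl 141 (c10n35) (.dead))

def c10n37 : SC := .pick 19 (.expl 51 (c10n36) (.dead))

def c10n38 : SC := .pick 11 (.expl 43 (c10n21) (.expl 267 (c10n37) (.dead)))

def c10n39 : SC := .pick 208 (.expl 464 (.leaf 984818244535754528103509389332383776) (.dead))

def c10n40 : SC := .pick 56 (.expl 120 (c10n39) (.dead))

def c10n41 : SC := .pick 100 (.expl 356 (c10n40) (.dead))

def c10n42 : SC := .pick 44 (.expl 172 (c10n41) (.dead))

def c10n43 : SC := .pick 28 (.expl 284 (c10n42) (.dead))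

def c10n44 : SC := .pick 162 (.expl 418 (c10n43) (.dead))

def c10n45 : SC := .pick 74 (.expl 330 (c10n44) (.dead))

def c10n46 : SC := .pick 26 (.expl 154 (c10n45) (.dead))

def c10n47 : SC := .pick 70 (.expl 198 (c10n46) (.dead))

def c10n48 : SC := .pick 22 (.expl 54 (c10n47) (.dead))

def c10n49 : SC := .pick 97 (.expl 225 (c10n48) (.dead))

def c10n50 : SC := .pick 49 (.expl 305 (c10n49) (.dead))

def c10n51 : SC := .pick 137 (.expl 393 (c10n50) (.dead))

def c10n52 : SC := .pick 21 (.expl 149 (c10n51) (.dead))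

def c10n53 : SC := .pick 21 (.dead)

def c10n54 : SC := .pick 13 (.expl 77 (c10n52) (.expl 141 (c10n53) (.dead)))

def c10n55 : SC := .pick 19 (.expl 83 (c10n54) (.dead))

def c10n56 : SC := .pick 21 (.dead)

def c10n57 : SC := .pick 13 (.expl 141 (c10n56) (.dead))

def c10n58 : SC := .pick 19 (.expl 51 (c10n57) (.dead))

def c10n59 : SC := .pick 11 (.expl 43 (c10n55) (.expl 75 (c10n58) (.dead)))

def c10n60 : SC := .pick 7 (.expl 23 (c10n20) (.expl 71 (c10n38) (.expl 263 (c10n59) (.dead))))

def c10 : SC := c10n60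

def c11n0 : SC := .pick 368 (.expl 880 (.leaf 984818244535754528103549039458486304) (.dead))

def c11n1 : SC := .pick 408 (.expl 920 (c11n0) (.dead))

def c11n2 : SC := .pick 120 (.expl 248 (c11n1) (.dead))

def c11n3 : SC := .pick 228 (.expl 740 (c11n2) (.dead))

def c11n4 : SC := .pick 212 (.expl 468 (c11n3) (.dead))

def c11n5 : SC := .pick 332 (.expl 844 (c11n4) (.dead))

def c11n6 : SC := .pick 172 (.expl 428 (c11n5) (.dead))

def c11n7 : SC := .pick 60 (.expl 572 (c11n6) (.dead))

def c11n8 : SC := .pick 450 (.expl 962 (c11n7) (.dead))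

def c11n9 : SC := .pick 178 (.expl 434 (c11n8) (.dead))

def c11n10 : SC := .pick 170 (.expl 682 (c11n9) (.dead))

def c11n11 : SC := .pick 106 (.expl 362 (c11n10) (.dead))

def c11n12 : SC := .pick 90 (.expl 602 (c11n11) (.dead))

def c11n13 : SC := .pick 294 (.expl 806 (c11n12) (.dead))

def c11n14 : SC := .pick 150 (.expl 662 (c11n13) (.dead))

def c11n15 : SC := .pick 54 (.expl 118 (c11n14) (.dead))

def c11n16 : SC := .pick 78 (.expl 206 (c11n15) (.dead))

def c11n17 : SC := .pick 30 (.expl 286 (c11n16) (.dead))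

def c11n18 : SC := .pick 417 (.expl 929 (c11n17) (.dead))

def c11n19 : SC := .pick 209 (.expl 721 (c11n18) (.dead))

def c11n20 : SC := .pick 201 (.expl 457 (c11n19) (.dead))

def c11n21 : SC := .pick 105 (.expl 617 (c11n20) (.dead))

def c11n22 : SC := .pick 57 (.expl 313 (c11n21) (.dead))

def c11n23 : SC := .pick 101 (.expl 357 (c11n22) (.dead))

def c11n24 : SC := .pick 277 (.expl 789 (c11n23) (.dead))

def c11n25 : SC := .pick 53 (.expl 181 (c11n24) (.dead))

def c11n26 : SC := .pick 141 (.expl 653 (c11n25) (.dead))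

def c11n27 : SC := .pick 29 (.expl 93 (c11n26) (.dead))

def c11n28 : SC := .pick 99 (.expl 227 (c11n27) (.dead))

def c11n29 : SC := .pick 83 (.expl 339 (c11n28) (.dead))

def c11n30 : SC := .pick 51 (.expl 563 (c11n29) (.dead))

def c11n31 : SC := .pick 267 (.expl 779 (c11n30) (.dead))

def c11n32 : SC := .pick 139 (.dead)

def c11n33 : SC := .pick 27 (.expl 155 (c11n31) (.expl 283 (c11n32) (.dead)))

def c11n34 : SC := .pick 135 (.expl 391 (c11n33) (.dead))

def c11n35 : SC := .pick 71 (.expl 583 (c11n34) (.dead))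

def c11n36 : SC := .pick 464 (.expl 976 (.leaf 984818244535754528100066815438325792) (.dead))

def c11n37 : SC := .pick 184 (.expl 440 (c11n36) (.dead))

def c11n38 : SC := .pick 120 (.expl 632 (c11n37) (.dead))

def c11n39 : SC := .pick 356 (.expl 868 (c11n38) (.dead))

def c11n40 : SC := .pick 116 (.expl 244 (c11n39) (.dead))

def c11n41 : SC := .pick 204 (.expl 460 (c11n40) (.dead))

def c11n42 : SC := .pick 172 (.expl 684 (c11n41) (.dead))

def c11n43 : SC := .pick 284 (.expl 796 (c11n42) (.dead))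

def c11n44 : SC := .pick 418 (.expl 930 (c11n43) (.dead))

def c11n45 : SC := .pick 114 (.expl 370 (c11n44) (.dead))

def c11n46 : SC := .pick 330 (.expl 842 (c11n45) (.dead))

def c11n47 : SC := .pick 106 (.expl 234 (c11n46) (.dead))

def c11n48 : SC := .pick 154 (.expl 666 (c11n47) (.dead))

def c11n49 : SC := .pick 198 (.expl 710 (c11n48) (.dead))

def c11n50 : SC := .pick 150 (.expl 406 (c11n49) (.dead))

def c11n51 : SC := .pick 54 (.expl 566 (c11n50) (.dead))

def c11n52 : SC := .pick 46 (.expl 302 (c11n51) (.dead))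

def c11n53 : SC := .pick 30 (.expl 94 (c11n52) (.dead))

def c11n54 : SC := .pick 225 (.expl 737 (c11n53) (.dead))

def c11n55 : SC := .pick 305 (.expl 817 (c11n54) (.dead))

def c11n56 : SC := .pick 393 (.expl 905 (c11n55) (.dead))

def c11n57 : SC := .pick 105 (.expl 361 (c11n56) (.dead))

def c11n58 : SC := .pick 89 (.expl 217 (c11n57) (.dead))

def c11n59 : SC := .pick 165 (.expl 421 (c11n58) (.dead))

def c11n60 : SC := .pick 149 (.expl 661 (c11n59) (.dead))

def c11n61 : SC := .pick 85 (.expl 341 (c11n60) (.dead))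

def c11n62 : SC := .pick 77 (.expl 589 (c11n61) (.dead))

def c11n63 : SC := .pick 45 (.dead)

def c11n64 : SC := .pick 29 (.expl 61 (c11n62) (.expl 93 (c11n63) (.dead)))

def c11n65 : SC := .pick 195 (.expl 451 (c11n64) (.dead))

def c11n66 : SC := .pick 83 (.expl 595 (c11n65) (.dead))

def c11n67 : SC := .pick 51 (.expl 179 (c11n66) (.dead))

def c11n68 : SC := .pick 43 (.expl 555 (c11n67) (.dead))

def c11n69 : SC := .pick 27 (.expl 283 (c11n68) (.dead))

def c11n70 : SC := .pick 263 (.expl 775 (c11n69) (.dead))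

def c11n71 : SC := .pick 39 (.expl 103 (c11n70) (.dead))

def c11n72 : SC := .pick 15 (.expl 47 (c11n35) (.expl 143 (c11n71) (.dead)))

def c11 : SC := c11n72

def c12n0 : SC := .pick 976 (.expl 2000 (.leaf 984818244535754528103549039458486304) (.dead))

def c12n1 : SC := .pick 488 (.expl 1000 (c12n0) (.dead))

def c12n2 : SC := .pick 440 (.expl 1464 (c12n1) (.dead))

def c12n3 : SC := .pick 632 (.expl 1656 (c12n2) (.dead))

def c12n4 : SC := .pick 868 (.expl 1892 (c12n3) (.dead))

def c12n5 : SC := .pick 436 (.expl 948 (c12n4) (.dead))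

def c12n6 : SC := .pick 244 (.expl 1268 (c12n5) (.dead))

def c12n7 : SC := .pick 460 (.expl 1484 (c12n6) (.dead))

def c12n8 : SC := .pick 684 (.expl 1708 (c12n7) (.dead))

def c12n9 : SC := .pick 796 (.expl 1820 (c12n8) (.dead))

def c12n10 : SC := .pick 220 (.expl 732 (c12n9) (.dead))

def c12n11 : SC := .pick 124 (.expl 380 (c12n10) (.dead))

def c12n12 : SC := .pick 930 (.expl 1954 (c12n11) (.dead))

def c12n13 : SC := .pick 370 (.expl 1394 (c12n12) (.dead))

def c12n14 : SC := .pick 242 (.expl 754 (c12n13) (.dead))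

def c12n15 : SC := .pick 842 (.expl 1866 (c12n14) (.dead))

def c12n16 : SC := .pick 234 (.expl 1258 (c12n15) (.dead))

def c12n17 : SC := .pick 666 (.expl 1690 (c12n16) (.dead))

def c12n18 : SC := .pick 218 (.expl 474 (c12n17) (.dead))

def c12n19 : SC := .pick 314 (.expl 826 (c12n18) (.dead))

def c12n20 : SC := .pick 710 (.expl 1734 (c12n19) (.dead))

def c12n21 : SC := .pick 230 (.expl 486 (c12n20) (.dead))

def c12n22 : SC := .pick 406 (.expl 1430 (c12n21) (.dead))

def c12n23 : SC := .pick 342 (.expl 854 (c12n22) (.dead))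

def c12n24 : SC := .pick 566 (.expl 1590 (c12n23) (.dead))

def c12n25 : SC := .pick 398 (.expl 910 (c12n24) (.dead))

def c12n26 : SC := .pick 302 (.expl 1326 (c12n25) (.dead))

def c12n27 : SC := .pick 110 (.expl 622 (c12n26) (.dead))

def c12n28 : SC := .pick 94 (.expl 1118 (c12n27) (.dead))

def c12n29 : SC := .pick 62 (.expl 190 (c12n28) (.dead))

def c12n30 : SC := .pick 737 (.expl 1761 (c12n29) (.dead))

def c12n31 : SC := .pick 817 (.expl 1841 (c12n30) (.dead))

def c12n32 : SC := .pick 241 (.expl 497 (c12n31) (.dead))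

def c12n33 : SC := .pick 905 (.expl 1929 (c12n32) (.dead))

def c12n34 : SC := .pick 361 (.expl 1385 (c12n33) (.dead))

def c12n35 : SC := .pick 345 (.expl 857 (c12n34) (.dead))

def c12n36 : SC := .pick 217 (.expl 1241 (c12n35) (.dead))

def c12n37 : SC := .pick 185 (.expl 697 (c12n36) (.dead))

def c12n38 : SC := .pick 453 (.expl 965 (c12n37) (.dead))

def c12n39 : SC := .pick 421 (.expl 1445 (c12n38) (.dead))

def c12n40 : SC := .pick 661 (.expl 1685 (c12n39) (.dead))

def c12n41 : SC := .pick 341 (.expl 1365 (c12n40) (.dead))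

def c12n42 : SC := .pick 117 (.expl 629 (c12n41) (.dead))

def c12n43 : SC := .pick 589 (.expl 1613 (c12n42) (.dead))

def c12n44 : SC := .pick 301 (.expl 813 (c12n43) (.dead))

def c12n45 : SC := .pick 109 (.expl 237 (c12n44) (.dead))

def c12n46 : SC := .pick 157 (.expl 413 (c12n45) (.dead))

def c12n47 : SC := .pick 61 (.expl 1085 (c12n46) (.dead))

def c12n48 : SC := .pick 451 (.expl 1475 (c12n47) (.dead))

def c12n49 : SC := .pick 355 (.expl 867 (c12n48) (.dead))

def c12n50 : SC := .pick 403 (.expl 915 (c12n49) (.dead))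

def c12n51 : SC := .pick 595 (.expl 1619 (c12n50) (.dead))

def c12n52 : SC := .pick 179 (.expl 1203 (c12n51) (.dead))

def c12n53 : SC := .pick 203 (.expl 715 (c12n52) (.dead))

def c12n54 : SC := .pick 555 (.expl 1579 (c12n53) (.dead))

def c12n55 : SC := .pick 171 (.expl 427 (c12n54) (.dead))

def c12n56 : SC := .pick 283 (.expl 1307 (c12n55) (.dead))

def c12n57 : SC := .pick 59 (.expl 123 (c12n56) (.dead))

def c12n58 : SC := .pick 775 (.expl 1799 (c12n57) (.dead))

def c12n59 : SC := .pick 167 (.expl 679 (c12n58) (.dead))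

def c12n60 : SC := .pick 103 (.expl 1127 (c12n59) (.dead))

def c12n61 : SC := .pick 87 (.expl 215 (c12n60) (.dead))

def c12n62 : SC := .pick 55 (.expl 311 (c12n61) (.dead))

def c12n63 : SC := .pick 143 (.expl 1167 (c12n62) (.dead))

def c12n64 : SC := .pick 79 (.expl 335 (c12n63) (.dead))

def c12n65 : SC := .pick 31 (.expl 543 (c12n64) (.dead))

def c12 : SC := c12n65


theorem St_D9 : St 2 3 9 (setOf D9) := St_of_list (by norm_num) (by decide +kernel)
theorem St_D10 : St 3 4 10 (setOf D10) := St_of_list (by norm_num) (by decide +kernel)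
theorem St_D11 : St 4 5 11 (setOf D11) := St_of_list (by norm_num) (by decide +kernel)
theorem St_B12 : St 5 6 12 (setOf B12) := St_of_list (by norm_num) (by decide +kernel)

theorem T9 : ∀ B, St 2 3 9 B → Concl 9 D9 B :=
  base2 (by norm_num) (by norm_num) St_D9.cov (cert := c9) (by decide +kernel)

theorem T10 : ∀ B, St 3 4 10 B → Concl 10 D10 B :=
  ext2 (t := 2) (k := 3) (n := 9) (base := D9) (top := D10) (cert := c10) (by norm_num) (by norm_num) T9
    St_D10.cov (by decide +kernel)

theorem T11 : ∀ B, St 4 5 11 B → Concl 11 D11 B :=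
  ext2 (t := 3) (k := 4) (n := 10) (base := D10) (top := D11) (cert := c11) (by norm_num) (by norm_num) T10
    St_D11.cov (by decide +kernel)

theorem T12 : ∀ B, St 5 6 12 B → Concl 12 B12 B :=
  ext2 (t := 4) (k := 5) (n := 11) (base := D11) (top := B12) (cert := c12) (by norm_num) (by norm_num) T11
    St_B12.cov (by decide +kernel)

end CfsgLib.StCert.M12
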