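/-
Certificate data for the search on 22 points.
-/
import Cfsg.Agent.Lib.StCert.W24Data

set_option autoImplicit false
set_option maxRecDepth 100000

namespace CfsgLib.StCert.W24

open Cfsg CfsgLib.Golay CfsgLib.StCert

def c22n0 : SC := .pick 5632 (.expl 693760 (.leaf 984818244535754528103549039458486304) (.dead))

def c22n1 : SC := .pick 133376 (.expl 1968384 (c22n0) (.dead))

def c22n2 : SC := .pick 1664 (.expl 1328768 (c22n1) (.dead))

def c22n3 : SC := .pick 2432 (.expl 55680 (c22n2) (.dead))

def c22n4 : SC := .pick 8512 (.expl 1139008 (c22n3) (.dead))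

def c22n5 : SC := .pick 8736 (.expl 860704 (c22n4) (.dead))

def c22n6 : SC := .pick 608 (.expl 150112 (c22n5) (.dead))

def c22n7 : SC := .pick 224 (.expl 525792 (c22n6) (.dead))

def c22n8 : SC := .pick 3088 (.expl 609296 (c22n7) (.dead))

def c22n9 : SC := .pick 400 (.expl 197520 (c22n8) (.dead))

def c22n10 : SC := .pick 1104 (.expl 402512 (c22n9) (.dead))

def c22n11 : SC := .pick 176 (.expl 1058992 (c22n10) (.dead))

def c22n12 : SC := .pick 112 (.expl 102512 (c22n11) (.dead))

def c22n13 : SC := .pick 1160 (.expl 78984 (c22n12) (.dead))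

def c22n14 : SC := .pick 1096 (.expl 1084488 (c22n13) (.dead))

def c22n15 : SC := .pick 328 (.expl 267080 (c22n14) (.dead))

def c22n16 : SC := .pick 4136 (.expl 1593384 (c22n15) (.dead))

def c22n17 : SC := .pick 168 (.expl 426152 (c22n16) (.dead))

def c22n18 : SC := .pick 280 (.expl 565528 (c22n17) (.dead))

def c22n19 : SC := .pick 12292 (.expl 1355780 (c22n18) (.dead))

def c22n20 : SC := .pick 772 (.expl 12036 (c22n19) (.dead))

def c22n21 : SC := .pick 8324 (.expl 680068 (c22n20) (.dead))

def c22n22 : SC := .pick 196 (.expl 329924 (c22n21) (.dead))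

def c22n23 : SC := .pick 1060 (.expl 1246244 (c22n22) (.dead))

def c22n24 : SC := .pick 84 (.expl 1573460 (c22n23) (.dead))

def c22n25 : SC := .pick 52 (.expl 278836 (c22n24) (.dead))

def c22n26 : SC := .pick 524 (.expl 115212 (c22n25) (.dead))

def c22n27 : SC := .pick 28 (.expl 137244 (c22n26) (.dead))

def c22n28 : SC := .pick 2562 (.expl 1120770 (c22n27) (.dead))

def c22n29 : SC := .pick 1282 (.expl 361730 (c22n28) (.dead))

def c22n30 : SC := .pick 194 (.expl 41666 (c22n29) (.dead))

def c22n31 : SC := .pick 290 (.expl 143650 (c22n30) (.dead))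

def c22n32 : SC := .pick 16402 (.expl 1228818 (c22n31) (.dead))

def c22n33 : SC := .pick 146 (.expl 790674 (c22n32) (.dead))

def c22n34 : SC := .pick 2058 (.expl 288778 (c22n33) (.dead))

def c22n35 : SC := .pick 74 (.expl 720970 (c22n34) (.dead))

def c22n36 : SC := .pick 26 (.expl 1594 (c22n35) (.dead))

def c22n37 : SC := .pick 70 (.expl 21574 (c22n36) (.dead))

def c22n38 : SC := .pick 38 (.expl 559142 (c22n37) (.dead))

def c22n39 : SC := .pick 14 (.expl 1048974 (c22n38) (.dead))

def c22n40 : SC := .pick 20481 (.expl 479233 (c22n39) (.dead))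

def c22n41 : SC := .pick 32897 (.expl 1671297 (c22n40) (.dead))

def c22n42 : SC := .pick 2113 (.expl 538689 (c22n41) (.dead))

def c22n43 : SC := .pick 1057 (.expl 58401 (c22n42) (.dead))

def c22n44 : SC := .pick 529 (.expl 297489 (c22n43) (.dead))

def c22n45 : SC := .pick 273 (.expl 1053969 (c22n44) (.dead))

def c22n46 : SC := .pick 521 (.expl 1188361 (c22n45) (.dead))

def c22n47 : SC := .pick 41 (.expl 67881 (c22n46) (.dead))

def c22n48 : SC := .pick 25 (.expl 16601 (c22n47) (.dead))

def c22n49 : SC := .pick 69 (.expl 164165 (c22n48) (.dead))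

def c22n50 : SC := .pick 37 (.expl 4773 (c22n49) (.dead))

def c22n51 : SC := .pick 13 (.expl 787469 (c22n50) (.dead))

def c22n52 : SC := .pick 259 (.expl 541443 (c22n51) (.dead))

def c22n53 : SC := .pick 131 (.expl 134275 (c22n52) (.dead))

def c22n54 : SC := .pick 35 (.expl 1310819 (c22n53) (.dead))

def c22n55 : SC := .pick 82432 (.expl 1786368 (.leaf 984806388826317521100096989157230624) (.dead))

def c22n56 : SC := .pick 4736 (.expl 365184 (c22n55) (.dead))

def c22n57 : SC := .pick 1408 (.expl 1117568 (c22n56) (.dead))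

def c22n58 : SC := .pick 2624 (.expl 1321536 (c22n57) (.dead))

def c22n59 : SC := .pick 1344 (.expl 46400 (c22n58) (.dead))

def c22n60 : SC := .pick 2336 (.expl 551200 (c22n59) (.dead))

def c22n61 : SC := .pick 672 (.expl 140960 (c22n60) (.dead))

def c22n62 : SC := .pick 352 (.expl 459104 (c22n61) (.dead))

def c22n63 : SC := .pick 6160 (.expl 1611792 (c22n62) (.dead))

def c22n64 : SC := .pick 784 (.expl 788240 (c22n63) (.dead))

def c22n65 : SC := .pick 2192 (.expl 411792 (c22n64) (.dead))

def c22n66 : SC := .pick 208 (.expl 598224 (c22n65) (.dead))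

def c22n67 : SC := .pick 112 (.expl 1066096 (c22n66) (.dead))

def c22n68 : SC := .pick 12296 (.expl 929800 (c22n67) (.dead))

def c22n69 : SC := .pick 8328 (.expl 1106056 (c22n68) (.dead))

def c22n70 : SC := .pick 2120 (.expl 88136 (c22n69) (.dead))

def c22n71 : SC := .pick 1064 (.expl 623656 (c22n70) (.dead))

def c22n72 : SC := .pick 88 (.expl 164440 (c22n71) (.dead))

def c22n73 : SC := .pick 56 (.expl 4536 (c22n72) (.dead))

def c22n74 : SC := .pick 9220 (.expl 353284 (c22n73) (.dead))

def c22n75 : SC := .pick 1092 (.expl 658500 (c22n74) (.dead))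

def c22n76 : SC := .pick 196 (.expl 17348 (c22n75) (.dead))

def c22n77 : SC := .pick 4132 (.expl 184356 (c22n76) (.dead))

def c22n78 : SC := .pick 164 (.expl 1835172 (c22n77) (.dead))

def c22n79 : SC := .pick 276 (.expl 1188116 (c22n78) (.dead))

def c22n80 : SC := .pick 52 (.expl 68148 (c22n79) (.dead))

def c22n81 : SC := .pick 524 (.expl 1054220 (c22n80) (.dead))

def c22n82 : SC := .pick 268 (.expl 297228 (c22n81) (.dead))

def c22n83 : SC := .pick 1538 (.expl 52738 (c22n82) (.dead))

def c22n84 : SC := .pick 4354 (.expl 1331458 (c22n83) (.dead))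

def c22n85 : SC := .pick 386 (.expl 688514 (c22n84) (.dead))

def c22n86 : SC := .pick 98 (.expl 528994 (c22n85) (.dead))

def c22n87 : SC := .pick 1042 (.expl 201746 (c22n86) (.dead))

def c22n88 : SC := .pick 50 (.expl 303154 (c22n87) (.dead))

def c22n89 : SC := .pick 266 (.expl 74506 (c22n88) (.dead))

def c22n90 : SC := .pick 74 (.expl 263370 (c22n89) (.dead))

def c22n91 : SC := .pick 42 (.expl 1181738 (c22n90) (.dead))

def c22n92 : SC := .pick 134 (.expl 14470 (c22n91) (.dead))

def c22n93 : SC := .pick 70 (.expl 1146950 (c22n92) (.dead))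

def c22n94 : SC := .pick 14 (.expl 540702 (c22n93) (.dead))

def c22n95 : SC := .pick 33793 (.expl 1475585 (c22n94) (.dead))

def c22n96 : SC := .pick 769 (.expl 137985 (c22n95) (.dead))

def c22n97 : SC := .pick 1153 (.expl 545921 (c22n96) (.dead))

def c22n98 : SC := .pick 4129 (.expl 1126433 (c22n97) (.dead))

def c22n99 : SC := .pick 97 (.expl 35041 (c22n98) (.dead))

def c22n100 : SC := .pick 273 (.expl 114961 (c22n99) (.dead))

def c22n101 : SC := .pick 73 (.expl 1573193 (c22n100) (.dead))

def c22n102 : SC := .pick 41 (.expl 279081 (c22n101) (.dead))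

def c22n103 : SC := .pick 25 (.expl 11289 (c22n102) (.dead))

def c22n104 : SC := .pick 517 (.expl 565765 (c22n103) (.dead))

def c22n105 : SC := .pick 21 (.expl 266325 (c22n104) (.dead))

def c22n106 : SC := .pick 13 (.expl 196749 (c22n105) (.dead))

def c22n107 : SC := .pick 2051 (.expl 854019 (c22n106) (.dead))

def c22n108 : SC := .pick 67 (.expl 155715 (c22n107) (.dead))

def c22n109 : SC := .pick 19 (.expl 1049235 (c22n108) (.dead))

def c22n110 : SC := .pick 21504 (.expl 1168384 (.leaf 984810518232809095065434092218714144) (.dead))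

def c22n111 : SC := .pick 2816 (.expl 346880 (c22n110) (.dead))

def c22n112 : SC := .pick 66688 (.expl 984192 (c22n111) (.dead))

def c22n113 : SC := .pick 832 (.expl 664384 (c22n112) (.dead))

def c22n114 : SC := .pick 1216 (.expl 27840 (c22n113) (.dead))

def c22n115 : SC := .pick 24608 (.expl 1466400 (c22n114) (.dead))

def c22n116 : SC := .pick 4256 (.expl 569504 (c22n115) (.dead))

def c22n117 : SC := .pick 2144 (.expl 1640544 (c22n116) (.dead))

def c22n118 : SC := .pick 1552 (.expl 1183248 (c22n117) (.dead))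

def c22n119 : SC := .pick 4368 (.expl 430352 (c22n118) (.dead))

def c22n120 : SC := .pick 400 (.expl 1589648 (c22n119) (.dead))

def c22n121 : SC := .pick 304 (.expl 75056 (c22n120) (.dead))

def c22n122 : SC := .pick 112 (.expl 262896 (c22n121) (.dead))

def c22n123 : SC := .pick 1544 (.expl 304648 (c22n122) (.dead))

def c22n124 : SC := .pick 2312 (.expl 1063176 (c22n123) (.dead))

def c22n125 : SC := .pick 200 (.expl 98760 (c22n124) (.dead))

def c22n126 : SC := .pick 552 (.expl 201256 (c22n125) (.dead))

def c22n127 : SC := .pick 88 (.expl 529496 (c22n126) (.dead))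

def c22n128 : SC := .pick 56 (.expl 51256 (c22n127) (.dead))

def c22n129 : SC := .pick 644 (.expl 1122948 (c22n128) (.dead))

def c22n130 : SC := .pick 580 (.expl 39492 (c22n129) (.dead))

def c22n131 : SC := .pick 324 (.expl 1312068 (c22n130) (.dead))

def c22n132 : SC := .pick 548 (.expl 542244 (c22n131) (.dead))

def c22n133 : SC := .pick 164 (.expl 133540 (c22n132) (.dead))

def c22n134 : SC := .pick 2068 (.expl 796692 (c22n133) (.dead))

def c22n135 : SC := .pick 84 (.expl 213076 (c22n134) (.dead))

def c22n136 : SC := .pick 32780 (.expl 1736716 (c22n135) (.dead))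

def c22n137 : SC := .pick 140 (.expl 282764 (c22n136) (.dead))

def c22n138 : SC := .pick 6146 (.expl 677890 (c22n137) (.dead))

def c22n139 : SC := .pick 2178 (.expl 1345666 (c22n138) (.dead))

def c22n140 : SC := .pick 386 (.expl 6018 (c22n139) (.dead))

def c22n141 : SC := .pick 4162 (.expl 340034 (c22n140) (.dead))

def c22n142 : SC := .pick 98 (.expl 164962 (c22n141) (.dead))

def c22n143 : SC := .pick 530 (.expl 623122 (c22n142) (.dead))

def c22n144 : SC := .pick 74 (.expl 1065546 (c22n143) (.dead))

def c22n145 : SC := .pick 42 (.expl 786730 (c22n144) (.dead))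

def c22n146 : SC := .pick 26 (.expl 139418 (c22n145) (.dead))

def c22n147 : SC := .pick 262 (.expl 57606 (c22n146) (.dead))

def c22n148 : SC := .pick 22 (.expl 1052726 (c22n147) (.dead))

def c22n149 : SC := .pick 14 (.expl 68622 (c22n148) (.dead))

def c22n150 : SC := .pick 4609 (.expl 1839617 (c22n149) (.dead))

def c22n151 : SC := .pick 1281 (.expl 560385 (c22n150) (.dead))

def c22n152 : SC := .pick 641 (.expl 180865 (c22n151) (.dead))

def c22n153 : SC := .pick 97 (.expl 20833 (c22n152) (.dead))

def c22n154 : SC := .pick 145 (.expl 71825 (c22n153) (.dead))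

def c22n155 : SC := .pick 81 (.expl 1089617 (c22n154) (.dead))

def c22n156 : SC := .pick 8201 (.expl 614409 (c22n155) (.dead))

def c22n157 : SC := .pick 73 (.expl 395337 (c22n156) (.dead))

def c22n158 : SC := .pick 41 (.expl 1049769 (c22n157) (.dead))

def c22n159 : SC := .pick 1029 (.expl 144389 (c22n158) (.dead))

def c22n160 : SC := .pick 37 (.expl 360485 (c22n159) (.dead))

def c22n161 : SC := .pick 13 (.expl 797 (c22n160) (.dead))

def c22n162 : SC := .pick 259 (.expl 1245443 (c22n161) (.dead))

def c22n163 : SC := .pick 35 (.expl 10787 (c22n162) (.dead))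

def c22n164 : SC := .pick 19 (.expl 279571 (c22n163) (.dead))

def c22n165 : SC := .pick 7 (.expl 73751 (c22n54) (.expl 1319 (c22n109) (.expl 524487 (c22n164) (.dead))))

def c22 : SC := c22n165

end CfsgLib.StCert.W24
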