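/-
Certificate data for the search on 23 points.
-/
import Cfsg.Agent.Lib.StCert.W24Data

set_option autoImplicit false
set_option maxRecDepth 100000

namespace CfsgLib.StCert.W24

open Cfsg CfsgLib.Golay CfsgLib.StCert

def c23n0 : SC := .pick 54272 (.expl 3265536 (.leaf 984818244535754528103549039458486304) (.dead))

def c23n1 : SC := .pick 27136 (.expl 1632768 (c23n0) (.dead))

def c23n2 : SC := .pick 13568 (.expl 816384 (c23n1) (.dead))

def c23n3 : SC := .pick 19200 (.expl 2444032 (c23n2) (.dead))

def c23n4 : SC := .pick 197760 (.expl 3081344 (c23n3) (.dead))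

def c23n5 : SC := .pick 6784 (.expl 408192 (c23n4) (.dead))

def c23n6 : SC := .pick 9600 (.expl 1222016 (c23n5) (.dead))

def c23n7 : SC := .pick 98880 (.expl 1540672 (c23n6) (.dead))

def c23n8 : SC := .pick 3392 (.expl 204096 (c23n7) (.dead))

def c23n9 : SC := .pick 9024 (.expl 2761536 (c23n8) (.dead))

def c23n10 : SC := .pick 3264 (.expl 2124992 (c23n9) (.dead))

def c23n11 : SC := .pick 4800 (.expl 611008 (c23n10) (.dead))

def c23n12 : SC := .pick 155680 (.expl 3563552 (c23n11) (.dead))

def c23n13 : SC := .pick 49440 (.expl 770336 (c23n12) (.dead))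

def c23n14 : SC := .pick 12448 (.expl 2666656 (c23n13) (.dead))

def c23n15 : SC := .pick 1696 (.expl 102048 (c23n14) (.dead))

def c23n16 : SC := .pick 4512 (.expl 1380768 (c23n15) (.dead))

def c23n17 : SC := .pick 67680 (.expl 3737696 (c23n16) (.dead))

def c23n18 : SC := .pick 1632 (.expl 1062496 (c23n17) (.dead))

def c23n19 : SC := .pick 2400 (.expl 305504 (c23n18) (.dead))

def c23n20 : SC := .pick 77840 (.expl 1781776 (c23n19) (.dead))

def c23n21 : SC := .pick 3600 (.expl 3280400 (c23n20) (.dead))

def c23n22 : SC := .pick 37136 (.expl 2527504 (c23n21) (.dead))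

def c23n23 : SC := .pick 24720 (.expl 385168 (c23n22) (.dead))

def c23n24 : SC := .pick 16784 (.expl 3686800 (c23n23) (.dead))

def c23n25 : SC := .pick 6224 (.expl 1333328 (c23n24) (.dead))

def c23n26 : SC := .pick 848 (.expl 51024 (c23n25) (.dead))

def c23n27 : SC := .pick 2256 (.expl 690384 (c23n26) (.dead))

def c23n28 : SC := .pick 33840 (.expl 1868848 (c23n27) (.dead))

def c23n29 : SC := .pick 1328 (.expl 2172208 (c23n28) (.dead))

def c23n30 : SC := .pick 816 (.expl 531248 (c23n29) (.dead))

def c23n31 : SC := .pick 1200 (.expl 152752 (c23n30) (.dead))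

def c23n32 : SC := .pick 240 (.expl 2360048 (c23n31) (.dead))

def c23n33 : SC := .pick 38920 (.expl 890888 (c23n32) (.dead))

def c23n34 : SC := .pick 9736 (.expl 2401800 (c23n33) (.dead))

def c23n35 : SC := .pick 6408 (.expl 3160328 (c23n34) (.dead))

def c23n36 : SC := .pick 1800 (.expl 1640200 (c23n35) (.dead))

def c23n37 : SC := .pick 18568 (.expl 1263752 (c23n36) (.dead))

def c23n38 : SC := .pick 12360 (.expl 192584 (c23n37) (.dead))

def c23n39 : SC := .pick 8392 (.expl 1843400 (c23n38) (.dead))

def c23n40 : SC := .pick 456 (.expl 2195912 (c23n39) (.dead))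

def c23n41 : SC := .pick 3112 (.expl 666664 (c23n40) (.dead))

def c23n42 : SC := .pick 4648 (.expl 2298408 (c23n41) (.dead))

def c23n43 : SC := .pick 424 (.expl 25512 (c23n42) (.dead))

def c23n44 : SC := .pick 1128 (.expl 345192 (c23n43) (.dead))

def c23n45 : SC := .pick 16920 (.expl 934424 (c23n44) (.dead))

def c23n46 : SC := .pick 664 (.expl 1086104 (c23n45) (.dead))

def c23n47 : SC := .pick 408 (.expl 265624 (c23n46) (.dead))

def c23n48 : SC := .pick 1112 (.expl 2626648 (c23n47) (.dead))

def c23n49 : SC := .pick 600 (.expl 76376 (c23n48) (.dead))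

def c23n50 : SC := .pick 2104 (.expl 2148408 (c23n49) (.dead))

def c23n51 : SC := .pick 120 (.expl 1180024 (c23n50) (.dead))

def c23n52 : SC := .pick 19460 (.expl 445444 (c23n51) (.dead))

def c23n53 : SC := .pick 4868 (.expl 1200900 (c23n52) (.dead))

def c23n54 : SC := .pick 3204 (.expl 1580164 (c23n53) (.dead))

def c23n55 : SC := .pick 8836 (.expl 3220100 (c23n54) (.dead))

def c23n56 : SC := .pick 900 (.expl 820100 (c23n55) (.dead))

def c23n57 : SC := .pick 9284 (.expl 631876 (c23n56) (.dead))

def c23n58 : SC := .pick 2628 (.expl 2136644 (c23n57) (.dead))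

def c23n59 : SC := .pick 1348 (.expl 3409220 (c23n58) (.dead))

def c23n60 : SC := .pick 6180 (.expl 96292 (c23n59) (.dead))

def c23n61 : SC := .pick 1572 (.expl 2639396 (c23n60) (.dead))

def c23n62 : SC := .pick 420 (.expl 2230692 (c23n61) (.dead))

def c23n63 : SC := .pick 4196 (.expl 921700 (c23n62) (.dead))

def c23n64 : SC := .pick 228 (.expl 1097956 (c23n63) (.dead))

def c23n65 : SC := .pick 10260 (.expl 2893844 (c23n64) (.dead))

def c23n66 : SC := .pick 1556 (.expl 333332 (c23n65) (.dead))

def c23n67 : SC := .pick 2324 (.expl 1149204 (c23n66) (.dead))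

def c23n68 : SC := .pick 16468 (.expl 2310228 (c23n67) (.dead))

def c23n69 : SC := .pick 212 (.expl 12756 (c23n68) (.dead))

def c23n70 : SC := .pick 564 (.expl 172596 (c23n69) (.dead))

def c23n71 : SC := .pick 163852 (.expl 3833868 (c23n70) (.dead))

def c23n72 : SC := .pick 8460 (.expl 467212 (c23n71) (.dead))

def c23n73 : SC := .pick 4236 (.expl 2379916 (c23n72) (.dead))

def c23n74 : SC := .pick 332 (.expl 543052 (c23n73) (.dead))

def c23n75 : SC := .pick 204 (.expl 132812 (c23n74) (.dead))

def c23n76 : SC := .pick 556 (.expl 1313324 (c23n75) (.dead))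

def c23n77 : SC := .pick 300 (.expl 38188 (c23n76) (.dead))

def c23n78 : SC := .pick 1052 (.expl 1074204 (c23n77) (.dead))

def c23n79 : SC := .pick 60 (.expl 590012 (c23n78) (.dead))

def c23n80 : SC := .pick 22530 (.expl 2775042 (c23n79) (.dead))

def c23n81 : SC := .pick 9730 (.expl 222722 (c23n80) (.dead))

def c23n82 : SC := .pick 34946 (.expl 3442818 (c23n81) (.dead))

def c23n83 : SC := .pick 2434 (.expl 600450 (c23n82) (.dead))

def c23n84 : SC := .pick 898 (.expl 2103170 (c23n83) (.dead))

def c23n85 : SC := .pick 12354 (.expl 2437186 (c23n84) (.dead))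

def c23n86 : SC := .pick 1602 (.expl 790082 (c23n85) (.dead))

def c23n87 : SC := .pick 4418 (.expl 1610050 (c23n86) (.dead))

def c23n88 : SC := .pick 450 (.expl 410050 (c23n87) (.dead))

def c23n89 : SC := .pick 4642 (.expl 315938 (c23n88) (.dead))

def c23n90 : SC := .pick 1314 (.expl 1068322 (c23n89) (.dead))

def c23n91 : SC := .pick 674 (.expl 1704610 (c23n90) (.dead))

def c23n92 : SC := .pick 1122 (.expl 2262114 (c23n91) (.dead))

def c23n93 : SC := .pick 3090 (.expl 48146 (c23n92) (.dead))

def c23n94 : SC := .pick 33298 (.expl 2720274 (c23n93) (.dead))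

def c23n95 : SC := .pick 786 (.expl 1319698 (c23n94) (.dead))

def c23n96 : SC := .pick 210 (.expl 1115346 (c23n95) (.dead))

def c23n97 : SC := .pick 2098 (.expl 460850 (c23n96) (.dead))

def c23n98 : SC := .pick 114 (.expl 548978 (c23n97) (.dead))

def c23n99 : SC := .pick 5130 (.expl 1446922 (c23n98) (.dead))

def c23n100 : SC := .pick 778 (.expl 166666 (c23n99) (.dead))

def c23n101 : SC := .pick 1162 (.expl 574602 (c23n100) (.dead))

def c23n102 : SC := .pick 586 (.expl 3162698 (c23n101) (.dead))

def c23n103 : SC := .pick 8234 (.expl 1155114 (c23n102) (.dead))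

def c23n104 : SC := .pick 298 (.expl 2883882 (c23n103) (.dead))

def c23n105 : SC := .pick 106 (.expl 6378 (c23n104) (.dead))

def c23n106 : SC := .pick 282 (.expl 86298 (c23n105) (.dead))

def c23n107 : SC := .pick 154 (.expl 2236570 (c23n106) (.dead))

def c23n108 : SC := .pick 81926 (.expl 1916934 (c23n107) (.dead))

def c23n109 : SC := .pick 8454 (.expl 2154758 (c23n108) (.dead))

def c23n110 : SC := .pick 4230 (.expl 233606 (c23n109) (.dead))

def c23n111 : SC := .pick 2118 (.expl 1189958 (c23n110) (.dead))

def c23n112 : SC := .pick 166 (.expl 271526 (c23n111) (.dead))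

def c23n113 : SC := .pick 102 (.expl 66406 (c23n112) (.dead))

def c23n114 : SC := .pick 278 (.expl 656662 (c23n113) (.dead))

def c23n115 : SC := .pick 150 (.expl 19094 (c23n114) (.dead))

def c23n116 : SC := .pick 54 (.expl 3149878 (c23n115) (.dead))

def c23n117 : SC := .pick 1038 (.expl 2165774 (c23n116) (.dead))

def c23n118 : SC := .pick 526 (.expl 537102 (c23n117) (.dead))

def c23n119 : SC := .pick 30 (.expl 295006 (c23n118) (.dead))

def c23n120 : SC := .pick 11265 (.expl 1387521 (c23n119) (.dead))

def c23n121 : SC := .pick 266753 (.expl 3936769 (c23n120) (.dead))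

def c23n122 : SC := .pick 3329 (.expl 2657537 (c23n121) (.dead))

def c23n123 : SC := .pick 4865 (.expl 111361 (c23n122) (.dead))

def c23n124 : SC := .pick 17025 (.expl 2278017 (c23n123) (.dead))

def c23n125 : SC := .pick 17473 (.expl 1721409 (c23n124) (.dead))

def c23n126 : SC := .pick 1217 (.expl 300225 (c23n125) (.dead))

def c23n127 : SC := .pick 449 (.expl 1051585 (c23n126) (.dead))

def c23n128 : SC := .pick 6177 (.expl 1218593 (c23n127) (.dead))

def c23n129 : SC := .pick 801 (.expl 395041 (c23n128) (.dead))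

def c23n130 : SC := .pick 2209 (.expl 805025 (c23n129) (.dead))

def c23n131 : SC := .pick 353 (.expl 2117985 (c23n130) (.dead))

def c23n132 : SC := .pick 225 (.expl 205025 (c23n131) (.dead))

def c23n133 : SC := .pick 2321 (.expl 157969 (c23n132) (.dead))

def c23n134 : SC := .pick 2193 (.expl 2168977 (c23n133) (.dead))

def c23n135 : SC := .pick 657 (.expl 534161 (c23n134) (.dead))

def c23n136 : SC := .pick 8273 (.expl 3186769 (c23n135) (.dead))

def c23n137 : SC := .pick 337 (.expl 852305 (c23n136) (.dead))

def c23n138 : SC := .pick 561 (.expl 1131057 (c23n137) (.dead))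

def c23n139 : SC := .pick 24585 (.expl 2711561 (c23n138) (.dead))

def c23n140 : SC := .pick 1545 (.expl 24073 (c23n139) (.dead))

def c23n141 : SC := .pick 16649 (.expl 1360137 (c23n140) (.dead))

def c23n142 : SC := .pick 393 (.expl 659849 (c23n141) (.dead))

def c23n143 : SC := .pick 2121 (.expl 2492489 (c23n142) (.dead))

def c23n144 : SC := .pick 169 (.expl 3146921 (c23n143) (.dead))

def c23n145 : SC := .pick 105 (.expl 557673 (c23n144) (.dead))

def c23n146 : SC := .pick 1049 (.expl 230425 (c23n145) (.dead))

def c23n147 : SC := .pick 57 (.expl 274489 (c23n146) (.dead))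

def c23n148 : SC := .pick 5125 (.expl 2241541 (c23n147) (.dead))

def c23n149 : SC := .pick 2565 (.expl 723461 (c23n148) (.dead))

def c23n150 : SC := .pick 389 (.expl 83333 (c23n149) (.dead))

def c23n151 : SC := .pick 581 (.expl 287301 (c23n150) (.dead))

def c23n152 : SC := .pick 32805 (.expl 2457637 (c23n151) (.dead))

def c23n153 : SC := .pick 293 (.expl 1581349 (c23n152) (.dead))

def c23n154 : SC := .pick 4117 (.expl 577557 (c23n153) (.dead))

def c23n155 : SC := .pick 149 (.expl 1441941 (c23n154) (.dead))

def c23n156 : SC := .pick 53 (.expl 3189 (c23n155) (.dead))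

def c23n157 : SC := .pick 141 (.expl 43149 (c23n156) (.dead))

def c23n158 : SC := .pick 77 (.expl 1118285 (c23n157) (.dead))

def c23n159 : SC := .pick 29 (.expl 2097949 (c23n158) (.dead))

def c23n160 : SC := .pick 40963 (.expl 958467 (c23n159) (.dead))

def c23n161 : SC := .pick 65795 (.expl 3342595 (c23n160) (.dead))

def c23n162 : SC := .pick 4227 (.expl 1077379 (c23n161) (.dead))

def c23n163 : SC := .pick 2115 (.expl 116803 (c23n162) (.dead))

def c23n164 : SC := .pick 1059 (.expl 594979 (c23n163) (.dead))

def c23n165 : SC := .pick 547 (.expl 2107939 (c23n164) (.dead))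

def c23n166 : SC := .pick 1043 (.expl 2376723 (c23n165) (.dead))

def c23n167 : SC := .pick 83 (.expl 135763 (c23n166) (.dead))

def c23n168 : SC := .pick 51 (.expl 33203 (c23n167) (.dead))

def c23n169 : SC := .pick 139 (.expl 328331 (c23n168) (.dead))

def c23n170 : SC := .pick 75 (.expl 9547 (c23n169) (.dead))

def c23n171 : SC := .pick 27 (.expl 1574939 (c23n170) (.dead))

def c23n172 : SC := .pick 519 (.expl 1082887 (c23n171) (.dead))

def c23n173 : SC := .pick 263 (.expl 268551 (c23n172) (.dead))

def c23n174 : SC := .pick 71 (.expl 2621639 (c23n173) (.dead))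

def c23n175 : SC := .pick 15360 (.expl 1211392 (.leaf 976908860018153649115295146645227552) (.dead))

def c23n176 : SC := .pick 213504 (.expl 3883520 (c23n175) (.dead))

def c23n177 : SC := .pick 25344 (.expl 451328 (c23n176) (.dead))

def c23n178 : SC := .pick 11392 (.expl 830592 (c23n177) (.dead))

def c23n179 : SC := .pick 37504 (.expl 2462336 (c23n178) (.dead))

def c23n180 : SC := .pick 3456 (.expl 3214720 (c23n179) (.dead))

def c23n181 : SC := .pick 4992 (.expl 1586048 (c23n180) (.dead))

def c23n182 : SC := .pick 70720 (.expl 1905728 (c23n181) (.dead))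

def c23n183 : SC := .pick 10816 (.expl 3418688 (c23n182) (.dead))

def c23n184 : SC := .pick 5440 (.expl 2143552 (c23n183) (.dead))

def c23n185 : SC := .pick 2880 (.expl 625472 (c23n184) (.dead))

def c23n186 : SC := .pick 17600 (.expl 246976 (c23n185) (.dead))

def c23n187 : SC := .pick 51232 (.expl 1427488 (c23n186) (.dead))

def c23n188 : SC := .pick 10528 (.expl 2648352 (c23n187) (.dead))

def c23n189 : SC := .pick 1824 (.expl 87840 (c23n188) (.dead))

def c23n190 : SC := .pick 6304 (.expl 727200 (c23n189) (.dead))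

def c23n191 : SC := .pick 1696 (.expl 2238112 (c23n190) (.dead))

def c23n192 : SC := .pick 41056 (.expl 1744992 (c23n191) (.dead))

def c23n193 : SC := .pick 65888 (.expl 2556256 (c23n192) (.dead))

def c23n194 : SC := .pick 4320 (.expl 291040 (c23n193) (.dead))

def c23n195 : SC := .pick 38928 (.expl 3708944 (c23n194) (.dead))

def c23n196 : SC := .pick 9744 (.expl 1156624 (c23n195) (.dead))

def c23n197 : SC := .pick 6416 (.expl 342288 (c23n196) (.dead))

def c23n198 : SC := .pick 1808 (.expl 2885392 (c23n197) (.dead))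

def c23n199 : SC := .pick 18576 (.expl 2508944 (c23n198) (.dead))

def c23n200 : SC := .pick 4432 (.expl 676176 (c23n199) (.dead))

def c23n201 : SC := .pick 8400 (.expl 2695376 (c23n200) (.dead))

def c23n202 : SC := .pick 720 (.expl 7888 (c23n201) (.dead))

def c23n203 : SC := .pick 464 (.expl 1343952 (c23n202) (.dead))

def c23n204 : SC := .pick 4656 (.expl 1446448 (c23n203) (.dead))

def c23n205 : SC := .pick 1328 (.expl 167216 (c23n204) (.dead))

def c23n206 : SC := .pick 688 (.expl 574128 (c23n205) (.dead))

def c23n207 : SC := .pick 1136 (.expl 3163248 (c23n206) (.dead))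

def c23n208 : SC := .pick 143368 (.expl 3026952 (c23n207) (.dead))

def c23n209 : SC := .pick 3592 (.expl 462344 (c23n208) (.dead))

def c23n210 : SC := .pick 37128 (.expl 1282312 (c23n209) (.dead))

def c23n211 : SC := .pick 24712 (.expl 3203208 (c23n210) (.dead))

def c23n212 : SC := .pick 16776 (.expl 868744 (c23n211) (.dead))

def c23n213 : SC := .pick 6216 (.expl 2185288 (c23n212) (.dead))

def c23n214 : SC := .pick 1608 (.expl 550472 (c23n213) (.dead))

def c23n215 : SC := .pick 456 (.expl 141768 (c23n214) (.dead))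

def c23n216 : SC := .pick 33832 (.expl 2720808 (c23n215) (.dead))

def c23n217 : SC := .pick 2600 (.expl 47656 (c23n216) (.dead))

def c23n218 : SC := .pick 1320 (.expl 1320232 (c23n217) (.dead))

def c23n219 : SC := .pick 232 (.expl 1114856 (c23n218) (.dead))

def c23n220 : SC := .pick 5144 (.expl 316440 (c23n219) (.dead))

def c23n221 : SC := .pick 792 (.expl 1067800 (c23n220) (.dead))

def c23n222 : SC := .pick 1176 (.expl 1705112 (c23n221) (.dead))

def c23n223 : SC := .pick 600 (.expl 2261592 (c23n222) (.dead))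

def c23n224 : SC := .pick 8248 (.expl 221240 (c23n223) (.dead))

def c23n225 : SC := .pick 184 (.expl 2101688 (c23n224) (.dead))

def c23n226 : SC := .pick 120 (.expl 788600 (c23n225) (.dead))

def c23n227 : SC := .pick 25604 (.expl 2450436 (c23n226) (.dead))

def c23n228 : SC := .pick 6660 (.expl 809476 (c23n227) (.dead))

def c23n229 : SC := .pick 17668 (.expl 1623300 (c23n228) (.dead))

def c23n230 : SC := .pick 2692 (.expl 1215108 (c23n229) (.dead))

def c23n231 : SC := .pick 1412 (.expl 398724 (c23n230) (.dead))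

def c23n232 : SC := .pick 3140 (.expl 2755652 (c23n231) (.dead))

def c23n233 : SC := .pick 4676 (.expl 209476 (c23n232) (.dead))

def c23n234 : SC := .pick 452 (.expl 2114500 (c23n233) (.dead))

def c23n235 : SC := .pick 20516 (.expl 2281508 (c23n234) (.dead))

def c23n236 : SC := .pick 262308 (.expl 3932324 (c23n235) (.dead))

def c23n237 : SC := .pick 420 (.expl 106916 (c23n236) (.dead))

def c23n238 : SC := .pick 612 (.expl 296548 (c23n237) (.dead))

def c23n239 : SC := .pick 356 (.expl 1055076 (c23n238) (.dead))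

def c23n240 : SC := .pick 98324 (.expl 1015828 (c23n239) (.dead))

def c23n241 : SC := .pick 8468 (.expl 3285268 (c23n240) (.dead))

def c23n242 : SC := .pick 4244 (.expl 1134740 (c23n241) (.dead))

def c23n243 : SC := .pick 2132 (.expl 59476 (c23n242) (.dead))

def c23n244 : SC := .pick 1076 (.expl 537652 (c23n243) (.dead))

def c23n245 : SC := .pick 564 (.expl 2165300 (c23n244) (.dead))

def c23n246 : SC := .pick 10252 (.expl 1648652 (c23n245) (.dead))

def c23n247 : SC := .pick 1548 (.expl 3151372 (c23n246) (.dead))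

def c23n248 : SC := .pick 2316 (.expl 2394380 (c23n247) (.dead))

def c23n249 : SC := .pick 16460 (.expl 1458252 (c23n248) (.dead))

def c23n250 : SC := .pick 204 (.expl 561356 (c23n249) (.dead))

def c23n251 : SC := .pick 300 (.expl 656172 (c23n250) (.dead))

def c23n252 : SC := .pick 172 (.expl 19628 (c23n251) (.dead))

def c23n253 : SC := .pick 156 (.expl 271004 (c23n252) (.dead))

def c23n254 : SC := .pick 92 (.expl 66908 (c23n253) (.dead))

def c23n255 : SC := .pick 28674 (.expl 651266 (c23n254) (.dead))

def c23n256 : SC := .pick 3586 (.expl 2149890 (c23n255) (.dead))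

def c23n257 : SC := .pick 20738 (.expl 3428610 (c23n256) (.dead))

def c23n258 : SC := .pick 73858 (.expl 1515650 (c23n257) (.dead))

def c23n259 : SC := .pick 33154 (.expl 2785666 (c23n258) (.dead))

def c23n260 : SC := .pick 6210 (.expl 432194 (c23n259) (.dead))

def c23n261 : SC := .pick 834 (.expl 1181506 (c23n260) (.dead))

def c23n262 : SC := .pick 2242 (.expl 1591490 (c23n261) (.dead))

def c23n263 : SC := .pick 17442 (.expl 934946 (c23n262) (.dead))

def c23n264 : SC := .pick 1186 (.expl 1086626 (c23n263) (.dead))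

def c23n265 : SC := .pick 418 (.expl 265122 (c23n264) (.dead))

def c23n266 : SC := .pick 1122 (.expl 76898 (c23n265) (.dead))

def c23n267 : SC := .pick 610 (.expl 2626146 (c23n266) (.dead))

def c23n268 : SC := .pick 5138 (.expl 2298898 (c23n267) (.dead))

def c23n269 : SC := .pick 2578 (.expl 666130 (c23n268) (.dead))

def c23n270 : SC := .pick 402 (.expl 26002 (c23n269) (.dead))

def c23n271 : SC := .pick 594 (.expl 344658 (c23n270) (.dead))

def c23n272 : SC := .pick 8242 (.expl 2400306 (c23n271) (.dead))

def c23n273 : SC := .pick 306 (.expl 1638706 (c23n272) (.dead))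

def c23n274 : SC := .pick 33290 (.expl 1868298 (c23n273) (.dead))

def c23n275 : SC := .pick 1290 (.expl 531722 (c23n274) (.dead))

def c23n276 : SC := .pick 778 (.expl 2171658 (c23n275) (.dead))

def c23n277 : SC := .pick 650 (.expl 152202 (c23n276) (.dead))

def c23n278 : SC := .pick 202 (.expl 2360522 (c23n277) (.dead))

def c23n279 : SC := .pick 2090 (.expl 3278890 (c23n278) (.dead))

def c23n280 : SC := .pick 106 (.expl 49514 (c23n279) (.dead))

def c23n281 : SC := .pick 154 (.expl 100506 (c23n280) (.dead))

def c23n282 : SC := .pick 90 (.expl 1060954 (c23n281) (.dead))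

def c23n283 : SC := .pick 2310 (.expl 215302 (c23n282) (.dead))

def c23n284 : SC := .pick 2182 (.expl 2111622 (c23n283) (.dead))

def c23n285 : SC := .pick 646 (.expl 591494 (c23n284) (.dead))

def c23n286 : SC := .pick 32838 (.expl 3244102 (c23n285) (.dead))

def c23n287 : SC := .pick 326 (.expl 794950 (c23n286) (.dead))

def c23n288 : SC := .pick 550 (.expl 1073702 (c23n287) (.dead))

def c23n289 : SC := .pick 1046 (.expl 1313814 (c23n288) (.dead))

def c23n290 : SC := .pick 278 (.expl 37654 (c23n289) (.dead))

def c23n291 : SC := .pick 54 (.expl 131318 (c23n290) (.dead))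

def c23n292 : SC := .pick 1038 (.expl 173070 (c23n291) (.dead))

def c23n293 : SC := .pick 46 (.expl 331822 (c23n292) (.dead))

def c23n294 : SC := .pick 30 (.expl 2637854 (c23n293) (.dead))

def c23n295 : SC := .pick 164865 (.expl 3572737 (c23n294) (.dead))

def c23n296 : SC := .pick 9473 (.expl 730369 (c23n295) (.dead))

def c23n297 : SC := .pick 2817 (.expl 2235137 (c23n296) (.dead))

def c23n298 : SC := .pick 5249 (.expl 2643073 (c23n297) (.dead))

def c23n299 : SC := .pick 2689 (.expl 92801 (c23n298) (.dead))

def c23n300 : SC := .pick 4673 (.expl 1102401 (c23n299) (.dead))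

def c23n301 : SC := .pick 1345 (.expl 281921 (c23n300) (.dead))

def c23n302 : SC := .pick 705 (.expl 918209 (c23n301) (.dead))

def c23n303 : SC := .pick 12321 (.expl 3223585 (c23n302) (.dead))

def c23n304 : SC := .pick 1569 (.expl 1576481 (c23n303) (.dead))

def c23n305 : SC := .pick 4385 (.expl 823585 (c23n304) (.dead))

def c23n306 : SC := .pick 417 (.expl 1196449 (c23n305) (.dead))

def c23n307 : SC := .pick 225 (.expl 2132193 (c23n306) (.dead))

def c23n308 : SC := .pick 24593 (.expl 1859601 (c23n307) (.dead))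

def c23n309 : SC := .pick 16657 (.expl 2212113 (c23n308) (.dead))

def c23n310 : SC := .pick 4241 (.expl 176273 (c23n309) (.dead))

def c23n311 : SC := .pick 2129 (.expl 1247313 (c23n310) (.dead))

def c23n312 : SC := .pick 177 (.expl 328881 (c23n311) (.dead))

def c23n313 : SC := .pick 113 (.expl 9073 (c23n312) (.dead))

def c23n314 : SC := .pick 18441 (.expl 706569 (c23n313) (.dead))

def c23n315 : SC := .pick 2185 (.expl 1317001 (c23n314) (.dead))

def c23n316 : SC := .pick 393 (.expl 34697 (c23n315) (.dead))

def c23n317 : SC := .pick 8265 (.expl 368713 (c23n316) (.dead))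

def c23n318 : SC := .pick 329 (.expl 3670345 (c23n317) (.dead))

def c23n319 : SC := .pick 553 (.expl 2376233 (c23n318) (.dead))

def c23n320 : SC := .pick 105 (.expl 136297 (c23n319) (.dead))

def c23n321 : SC := .pick 1049 (.expl 2108441 (c23n320) (.dead))

def c23n322 : SC := .pick 537 (.expl 594457 (c23n321) (.dead))

def c23n323 : SC := .pick 3077 (.expl 105477 (c23n322) (.dead))

def c23n324 : SC := .pick 8709 (.expl 2662917 (c23n323) (.dead))

def c23n325 : SC := .pick 773 (.expl 1377029 (c23n324) (.dead))

def c23n326 : SC := .pick 197 (.expl 1057989 (c23n325) (.dead))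

def c23n327 : SC := .pick 2085 (.expl 403493 (c23n326) (.dead))

def c23n328 : SC := .pick 101 (.expl 606309 (c23n327) (.dead))

def c23n329 : SC := .pick 533 (.expl 149013 (c23n328) (.dead))

def c23n330 : SC := .pick 149 (.expl 526741 (c23n329) (.dead))

def c23n331 : SC := .pick 85 (.expl 2363477 (c23n330) (.dead))

def c23n332 : SC := .pick 269 (.expl 28941 (c23n331) (.dead))

def c23n333 : SC := .pick 141 (.expl 2293901 (c23n332) (.dead))

def c23n334 : SC := .pick 29 (.expl 1081405 (c23n333) (.dead))

def c23n335 : SC := .pick 67587 (.expl 2951171 (c23n334) (.dead))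

def c23n336 : SC := .pick 1539 (.expl 275971 (c23n335) (.dead))

def c23n337 : SC := .pick 2307 (.expl 1091843 (c23n336) (.dead))

def c23n338 : SC := .pick 8259 (.expl 2252867 (c23n337) (.dead))

def c23n339 : SC := .pick 195 (.expl 70083 (c23n338) (.dead))

def c23n340 : SC := .pick 547 (.expl 229923 (c23n339) (.dead))

def c23n341 : SC := .pick 147 (.expl 3146387 (c23n340) (.dead))

def c23n342 : SC := .pick 83 (.expl 558163 (c23n341) (.dead))

def c23n343 : SC := .pick 51 (.expl 22579 (c23n342) (.dead))

def c23n344 : SC := .pick 1035 (.expl 1131531 (c23n343) (.dead))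

def c23n345 : SC := .pick 43 (.expl 532651 (c23n344) (.dead))

def c23n346 : SC := .pick 27 (.expl 393499 (c23n345) (.dead))

def c23n347 : SC := .pick 4103 (.expl 1708039 (c23n346) (.dead))

def c23n348 : SC := .pick 135 (.expl 311431 (c23n347) (.dead))

def c23n349 : SC := .pick 39 (.expl 2098471 (c23n348) (.dead))

def c23n350 : SC := .pick 15 (.expl 147503 (c23n174) (.expl 2639 (c23n349) (.dead)))

def c23 : SC := c23n350

end CfsgLib.StCert.W24
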