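/-
Certificate data for the search on 24 points.
-/
import Cfsg.Agent.Lib.StCert.W24Data

set_option autoImplicit false
set_option maxRecDepth 100000

namespace CfsgLib.StCert.W24

open Cfsg CfsgLib.Golay CfsgLib.StCert

def c24n0 : SC := .pick 31744 (.expl 5405696 (.leaf 984818244535754528103549039458486304) (.dead))

def c24n1 : SC := .pick 737792 (.expl 8077824 (c24n0) (.dead))

def c24n2 : SC := .pick 15872 (.expl 2702848 (c24n1) (.dead))

def c24n3 : SC := .pick 368896 (.expl 4038912 (c24n2) (.dead))

def c24n4 : SC := .pick 58112 (.expl 4645632 (c24n3) (.dead))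

def c24n5 : SC := .pick 7936 (.expl 1351424 (c24n4) (.dead))

def c24n6 : SC := .pick 184448 (.expl 2019456 (c24n5) (.dead))

def c24n7 : SC := .pick 44160 (.expl 5024896 (c24n6) (.dead))

def c24n8 : SC := .pick 103040 (.expl 6656640 (c24n7) (.dead))

def c24n9 : SC := .pick 29056 (.expl 2322816 (c24n8) (.dead))

def c24n10 : SC := .pick 68992 (.expl 7409024 (c24n9) (.dead))

def c24n11 : SC := .pick 13184 (.expl 5780352 (c24n10) (.dead))

def c24n12 : SC := .pick 3968 (.expl 675712 (c24n11) (.dead))

def c24n13 : SC := .pick 92224 (.expl 1009728 (c24n12) (.dead))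

def c24n14 : SC := .pick 332864 (.expl 6100032 (c24n13) (.dead))

def c24n15 : SC := .pick 272960 (.expl 7612992 (c24n14) (.dead))

def c24n16 : SC := .pick 22080 (.expl 2512448 (c24n15) (.dead))

def c24n17 : SC := .pick 51520 (.expl 3328320 (c24n16) (.dead))

def c24n18 : SC := .pick 13632 (.expl 6337856 (c24n17) (.dead))

def c24n19 : SC := .pick 35648 (.expl 4819776 (c24n18) (.dead))

def c24n20 : SC := .pick 14528 (.expl 1161408 (c24n19) (.dead))

def c24n21 : SC := .pick 50368 (.expl 4441280 (c24n20) (.dead))

def c24n22 : SC := .pick 34496 (.expl 3704512 (c24n21) (.dead))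

def c24n23 : SC := .pick 6592 (.expl 2890176 (c24n22) (.dead))

def c24n24 : SC := .pick 1984 (.expl 337856 (c24n23) (.dead))

def c24n25 : SC := .pick 116768 (.expl 5621792 (c24n24) (.dead))

def c24n26 : SC := .pick 46112 (.expl 504864 (c24n25) (.dead))

def c24n27 : SC := .pick 166432 (.expl 3050016 (c24n26) (.dead))

def c24n28 : SC := .pick 26912 (.expl 6842656 (c24n27) (.dead))

def c24n29 : SC := .pick 136480 (.expl 3806496 (c24n28) (.dead))

def c24n30 : SC := .pick 11040 (.expl 1256224 (c24n29) (.dead))

def c24n31 : SC := .pick 5920 (.expl 4282144 (c24n30) (.dead))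

def c24n32 : SC := .pick 71840 (.expl 4921504 (c24n31) (.dead))

def c24n33 : SC := .pick 25760 (.expl 1664160 (c24n32) (.dead))

def c24n34 : SC := .pick 6816 (.expl 3168928 (c24n33) (.dead))

def c24n35 : SC := .pick 9888 (.expl 6432416 (c24n34) (.dead))

def c24n36 : SC := .pick 17824 (.expl 2409888 (c24n35) (.dead))

def c24n37 : SC := .pick 172128 (.expl 5939296 (c24n36) (.dead))

def c24n38 : SC := .pick 7264 (.expl 580704 (c24n37) (.dead))

def c24n39 : SC := .pick 25184 (.expl 2220640 (c24n38) (.dead))

def c24n40 : SC := .pick 196960 (.expl 6750560 (c24n39) (.dead))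

def c24n41 : SC := .pick 17248 (.expl 1852256 (c24n40) (.dead))

def c24n42 : SC := .pick 12512 (.expl 4485344 (c24n41) (.dead))

def c24n43 : SC := .pick 3296 (.expl 1445088 (c24n42) (.dead))

def c24n44 : SC := .pick 992 (.expl 168928 (c24n43) (.dead))

def c24n45 : SC := .pick 563216 (.expl 7903248 (c24n44) (.dead))

def c24n46 : SC := .pick 58384 (.expl 2810896 (c24n45) (.dead))

def c24n47 : SC := .pick 23056 (.expl 252432 (c24n46) (.dead))

def c24n48 : SC := .pick 42512 (.expl 5350928 (c24n47) (.dead))

def c24n49 : SC := .pick 14608 (.expl 4536592 (c24n48) (.dead))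

def c24n50 : SC := .pick 83216 (.expl 1525008 (c24n49) (.dead))

def c24n51 : SC := .pick 263952 (.expl 7079696 (c24n50) (.dead))

def c24n52 : SC := .pick 149648 (.expl 6703248 (c24n51) (.dead))

def c24n53 : SC := .pick 13456 (.expl 3421328 (c24n52) (.dead))

def c24n54 : SC := .pick 68240 (.expl 1903248 (c24n53) (.dead))

def c24n55 : SC := .pick 5520 (.expl 628112 (c24n54) (.dead))

def c24n56 : SC := .pick 2960 (.expl 2141072 (c24n55) (.dead))

def c24n57 : SC := .pick 35920 (.expl 2460752 (c24n56) (.dead))

def c24n58 : SC := .pick 12880 (.expl 832080 (c24n57) (.dead))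

def c24n59 : SC := .pick 20816 (.expl 4870480 (c24n58) (.dead))

def c24n60 : SC := .pick 3408 (.expl 1584464 (c24n59) (.dead))

def c24n61 : SC := .pick 4944 (.expl 3216208 (c24n60) (.dead))

def c24n62 : SC := .pick 73936 (.expl 6889680 (c24n61) (.dead))

def c24n63 : SC := .pick 8912 (.expl 1204944 (c24n62) (.dead))

def c24n64 : SC := .pick 1744 (.expl 4202192 (c24n63) (.dead))

def c24n65 : SC := .pick 33232 (.expl 5538256 (c24n64) (.dead))

def c24n66 : SC := .pick 86064 (.expl 2969648 (c24n65) (.dead))

def c24n67 : SC := .pick 135728 (.expl 5640752 (c24n66) (.dead))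

def c24n68 : SC := .pick 3632 (.expl 290352 (c24n67) (.dead))

def c24n69 : SC := .pick 12592 (.expl 1110320 (c24n68) (.dead))

def c24n70 : SC := .pick 3376 (.expl 4361520 (c24n69) (.dead))

def c24n71 : SC := .pick 98480 (.expl 3375280 (c24n70) (.dead))

def c24n72 : SC := .pick 17072 (.expl 4768432 (c24n71) (.dead))

def c24n73 : SC := .pick 8624 (.expl 926128 (c24n72) (.dead))

def c24n74 : SC := .pick 6256 (.expl 2242672 (c24n73) (.dead))

def c24n75 : SC := .pick 17520 (.expl 7357552 (c24n74) (.dead))

def c24n76 : SC := .pick 1648 (.expl 722544 (c24n75) (.dead))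

def c24n77 : SC := .pick 496 (.expl 84464 (c24n76) (.dead))

def c24n78 : SC := .pick 405512 (.expl 7221256 (c24n77) (.dead))

def c24n79 : SC := .pick 281608 (.expl 3951624 (c24n78) (.dead))

def c24n80 : SC := .pick 29192 (.expl 1405448 (c24n79) (.dead))

def c24n81 : SC := .pick 69128 (.expl 4656648 (c24n80) (.dead))

def c24n82 : SC := .pick 102664 (.expl 5476616 (c24n81) (.dead))

def c24n83 : SC := .pick 11528 (.expl 126216 (c24n82) (.dead))

def c24n84 : SC := .pick 21256 (.expl 2675464 (c24n83) (.dead))

def c24n85 : SC := .pick 57480 (.expl 7397512 (c24n84) (.dead))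

def c24n86 : SC := .pick 7304 (.expl 2268296 (c24n85) (.dead))

def c24n87 : SC := .pick 41608 (.expl 762504 (c24n86) (.dead))

def c24n88 : SC := .pick 82312 (.expl 5063048 (c24n87) (.dead))

def c24n89 : SC := .pick 131976 (.expl 3539848 (c24n88) (.dead))

def c24n90 : SC := .pick 22600 (.expl 6379592 (c24n89) (.dead))

def c24n91 : SC := .pick 74824 (.expl 3351624 (c24n90) (.dead))

def c24n92 : SC := .pick 6728 (.expl 1710664 (c24n91) (.dead))

def c24n93 : SC := .pick 9800 (.expl 4744776 (c24n92) (.dead))

def c24n94 : SC := .pick 34120 (.expl 951624 (c24n93) (.dead))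

def c24n95 : SC := .pick 2760 (.expl 314056 (c24n94) (.dead))

def c24n96 : SC := .pick 2504 (.expl 4336072 (c24n95) (.dead))

def c24n97 : SC := .pick 1480 (.expl 1070536 (c24n96) (.dead))

def c24n98 : SC := .pick 99368 (.expl 6915112 (c24n97) (.dead))

def c24n99 : SC := .pick 6696 (.expl 4241960 (c24n98) (.dead))

def c24n100 : SC := .pick 17960 (.expl 1230376 (c24n99) (.dead))

def c24n101 : SC := .pick 6440 (.expl 416040 (c24n100) (.dead))

def c24n102 : SC := .pick 9512 (.expl 5514536 (c24n101) (.dead))

def c24n103 : SC := .pick 10408 (.expl 2435240 (c24n102) (.dead))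

def c24n104 : SC := .pick 1704 (.expl 792232 (c24n103) (.dead))

def c24n105 : SC := .pick 2472 (.expl 1608104 (c24n104) (.dead))

def c24n106 : SC := .pick 36968 (.expl 3444840 (c24n105) (.dead))

def c24n107 : SC := .pick 4456 (.expl 602472 (c24n106) (.dead))

def c24n108 : SC := .pick 872 (.expl 2101096 (c24n107) (.dead))

def c24n109 : SC := .pick 16616 (.expl 2769128 (c24n108) (.dead))

def c24n110 : SC := .pick 744 (.expl 5309160 (c24n109) (.dead))

def c24n111 : SC := .pick 43032 (.expl 1484824 (c24n110) (.dead))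

def c24n112 : SC := .pick 21528 (.expl 4510744 (c24n111) (.dead))

def c24n113 : SC := .pick 67864 (.expl 2820376 (c24n112) (.dead))

def c24n114 : SC := .pick 2840 (.expl 5262104 (c24n113) (.dead))

def c24n115 : SC := .pick 1816 (.expl 145176 (c24n114) (.dead))

def c24n116 : SC := .pick 6296 (.expl 555160 (c24n115) (.dead))

def c24n117 : SC := .pick 132248 (.expl 5899416 (c24n116) (.dead))

def c24n118 : SC := .pick 1688 (.expl 2180760 (c24n117) (.dead))

def c24n119 : SC := .pick 49240 (.expl 1687640 (c24n118) (.dead))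

def c24n120 : SC := .pick 33368 (.expl 6455896 (c24n119) (.dead))

def c24n121 : SC := .pick 8536 (.expl 2384216 (c24n120) (.dead))

def c24n122 : SC := .pick 4312 (.expl 463064 (c24n121) (.dead))

def c24n123 : SC := .pick 24632 (.expl 4415544 (c24n122) (.dead))

def c24n124 : SC := .pick 3128 (.expl 1121336 (c24n123) (.dead))

def c24n125 : SC := .pick 8760 (.expl 3678776 (c24n124) (.dead))

def c24n126 : SC := .pick 824 (.expl 361272 (c24n125) (.dead))

def c24n127 : SC := .pick 440 (.expl 6295992 (c24n126) (.dead))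

def c24n128 : SC := .pick 2168 (.expl 4982904 (c24n127) (.dead))

def c24n129 : SC := .pick 248 (.expl 42232 (c24n128) (.dead))

def c24n130 : SC := .pick 202756 (.expl 3610628 (c24n129) (.dead))

def c24n131 : SC := .pick 91140 (.expl 6644740 (c24n130) (.dead))

def c24n132 : SC := .pick 23044 (.expl 5003780 (c24n131) (.dead))

def c24n133 : SC := .pick 140804 (.expl 1975812 (c24n132) (.dead))

def c24n134 : SC := .pick 14596 (.expl 702724 (c24n133) (.dead))

def c24n135 : SC := .pick 50436 (.expl 5817604 (c24n134) (.dead))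

def c24n136 : SC := .pick 34564 (.expl 2328324 (c24n135) (.dead))

def c24n137 : SC := .pick 51332 (.expl 2738308 (c24n136) (.dead))

def c24n138 : SC := .pick 35460 (.expl 5409412 (c24n137) (.dead))

def c24n139 : SC := .pick 5764 (.expl 63108 (c24n138) (.dead))

def c24n140 : SC := .pick 10628 (.expl 1337732 (c24n139) (.dead))

def c24n141 : SC := .pick 5508 (.expl 4593028 (c24n140) (.dead))

def c24n142 : SC := .pick 28740 (.expl 3698756 (c24n141) (.dead))

def c24n143 : SC := .pick 134212 (.expl 6949956 (c24n142) (.dead))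

def c24n144 : SC := .pick 12868 (.expl 4403780 (c24n143) (.dead))

def c24n145 : SC := .pick 3652 (.expl 1134148 (c24n144) (.dead))

def c24n146 : SC := .pick 20804 (.expl 381252 (c24n145) (.dead))

def c24n147 : SC := .pick 41156 (.expl 2531524 (c24n146) (.dead))

def c24n148 : SC := .pick 65988 (.expl 1769924 (c24n147) (.dead))

def c24n149 : SC := .pick 964 (.expl 6308804 (c24n148) (.dead))

def c24n150 : SC := .pick 53284 (.expl 6475812 (c24n149) (.dead))

def c24n151 : SC := .pick 11300 (.expl 3189796 (c24n150) (.dead))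

def c24n152 : SC := .pick 37412 (.expl 1675812 (c24n151) (.dead))

def c24n153 : SC := .pick 3364 (.expl 855332 (c24n152) (.dead))

def c24n154 : SC := .pick 4900 (.expl 2372388 (c24n153) (.dead))

def c24n155 : SC := .pick 786596 (.expl 8126628 (c24n154) (.dead))

def c24n156 : SC := .pick 17060 (.expl 475812 (c24n155) (.dead))

def c24n157 : SC := .pick 8612 (.expl 4301220 (c24n156) (.dead))

def c24n158 : SC := .pick 1636 (.expl 4490852 (c24n157) (.dead))

def c24n159 : SC := .pick 2404 (.expl 5249380 (c24n158) (.dead))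

def c24n160 : SC := .pick 1380 (.expl 157028 (c24n159) (.dead))

def c24n161 : SC := .pick 1252 (.expl 2168036 (c24n160) (.dead))

def c24n162 : SC := .pick 740 (.expl 535268 (c24n161) (.dead))

def c24n163 : SC := .pick 229396 (.expl 5210132 (c24n162) (.dead))

def c24n164 : SC := .pick 49684 (.expl 3457556 (c24n163) (.dead))

def c24n165 : SC := .pick 139540 (.expl 7479572 (c24n164) (.dead))

def c24n166 : SC := .pick 3348 (.expl 2120980 (c24n165) (.dead))

def c24n167 : SC := .pick 8980 (.expl 615188 (c24n166) (.dead))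

def c24n168 : SC := .pick 20628 (.expl 5329044 (c24n167) (.dead))

def c24n169 : SC := .pick 3220 (.expl 208020 (c24n168) (.dead))

def c24n170 : SC := .pick 4756 (.expl 2757268 (c24n169) (.dead))

def c24n171 : SC := .pick 10324 (.expl 4253780 (c24n170) (.dead))

def c24n172 : SC := .pick 5204 (.expl 1217620 (c24n171) (.dead))

def c24n173 : SC := .pick 852 (.expl 396116 (c24n172) (.dead))

def c24n174 : SC := .pick 1236 (.expl 804052 (c24n173) (.dead))

def c24n175 : SC := .pick 18484 (.expl 1722420 (c24n174) (.dead))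

def c24n176 : SC := .pick 5172 (.expl 4731956 (c24n175) (.dead))

def c24n177 : SC := .pick 2612 (.expl 6359604 (c24n176) (.dead))

def c24n178 : SC := .pick 2228 (.expl 301236 (c24n177) (.dead))

def c24n179 : SC := .pick 436 (.expl 1050548 (c24n178) (.dead))

def c24n180 : SC := .pick 8308 (.expl 1384564 (c24n179) (.dead))

def c24n181 : SC := .pick 372 (.expl 2654580 (c24n180) (.dead))

def c24n182 : SC := .pick 75788 (.expl 5842956 (c24n181) (.dead))

def c24n183 : SC := .pick 21516 (.expl 742412 (c24n182) (.dead))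

def c24n184 : SC := .pick 10764 (.expl 2255372 (c24n183) (.dead))

def c24n185 : SC := .pick 5644 (.expl 7345676 (c24n184) (.dead))

def c24n186 : SC := .pick 35084 (.expl 6588684 (c24n185) (.dead))

def c24n187 : SC := .pick 33932 (.expl 1410188 (c24n186) (.dead))

def c24n188 : SC := .pick 1420 (.expl 2631052 (c24n187) (.dead))

def c24n189 : SC := .pick 908 (.expl 72588 (c24n188) (.dead))

def c24n190 : SC := .pick 147532 (.expl 5652556 (c24n189) (.dead))

def c24n191 : SC := .pick 3148 (.expl 277580 (c24n190) (.dead))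

def c24n192 : SC := .pick 66124 (.expl 2949708 (c24n191) (.dead))

def c24n193 : SC := .pick 844 (.expl 1090380 (c24n192) (.dead))

def c24n194 : SC := .pick 4300 (.expl 4755660 (c24n193) (.dead))

def c24n195 : SC := .pick 24620 (.expl 843820 (c24n194) (.dead))

def c24n196 : SC := .pick 16684 (.expl 3227948 (c24n195) (.dead))

def c24n197 : SC := .pick 812 (.expl 4850476 (c24n196) (.dead))

def c24n198 : SC := .pick 4268 (.expl 1192108 (c24n197) (.dead))

def c24n199 : SC := .pick 1196 (.expl 4213932 (c24n198) (.dead))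

def c24n200 : SC := .pick 2156 (.expl 231532 (c24n199) (.dead))

def c24n201 : SC := .pick 12316 (.expl 2207772 (c24n200) (.dead))

def c24n202 : SC := .pick 1564 (.expl 560668 (c24n201) (.dead))

def c24n203 : SC := .pick 4380 (.expl 1839388 (c24n202) (.dead))

def c24n204 : SC := .pick 668 (.expl 4465308 (c24n203) (.dead))

def c24n205 : SC := .pick 412 (.expl 180636 (c24n204) (.dead))

def c24n206 : SC := .pick 348 (.expl 4261212 (c24n205) (.dead))

def c24n207 : SC := .pick 220 (.expl 3147996 (c24n206) (.dead))

def c24n208 : SC := .pick 1084 (.expl 2491452 (c24n207) (.dead))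

def c24n209 : SC := .pick 124 (.expl 21116 (c24n208) (.dead))

def c24n210 : SC := .pick 61442 (.expl 4845570 (c24n209) (.dead))

def c24n211 : SC := .pick 101378 (.expl 1805314 (c24n210) (.dead))

def c24n212 : SC := .pick 45570 (.expl 3322370 (c24n211) (.dead))

def c24n213 : SC := .pick 19970 (.expl 6344194 (c24n212) (.dead))

def c24n214 : SC := .pick 282882 (.expl 7622914 (c24n213) (.dead))

def c24n215 : SC := .pick 11522 (.expl 2501890 (c24n214) (.dead))

def c24n216 : SC := .pick 70402 (.expl 987906 (c24n215) (.dead))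

def c24n217 : SC := .pick 204930 (.expl 5709954 (c24n216) (.dead))

def c24n218 : SC := .pick 7298 (.expl 351362 (c24n217) (.dead))

def c24n219 : SC := .pick 25218 (.expl 2908802 (c24n218) (.dead))

def c24n220 : SC := .pick 164226 (.expl 6979970 (c24n219) (.dead))

def c24n221 : SC := .pick 17282 (.expl 1164162 (c24n220) (.dead))

def c24n222 : SC := .pick 38978 (.expl 4626498 (c24n221) (.dead))

def c24n223 : SC := .pick 25666 (.expl 1369154 (c24n222) (.dead))

def c24n224 : SC := .pick 17730 (.expl 2704706 (c24n223) (.dead))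

def c24n225 : SC := .pick 2882 (.expl 31554 (c24n224) (.dead))

def c24n226 : SC := .pick 1858 (.expl 5375810 (c24n225) (.dead))

def c24n227 : SC := .pick 18626 (.expl 5785794 (c24n226) (.dead))

def c24n228 : SC := .pick 5314 (.expl 668866 (c24n227) (.dead))

def c24n229 : SC := .pick 2754 (.expl 2296514 (c24n228) (.dead))

def c24n230 : SC := .pick 14370 (.expl 1849378 (c24n229) (.dead))

def c24n231 : SC := .pick 148514 (.expl 5129250 (c24n230) (.dead))

def c24n232 : SC := .pick 67106 (.expl 3474978 (c24n231) (.dead))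

def c24n233 : SC := .pick 6434 (.expl 2201890 (c24n232) (.dead))

def c24n234 : SC := .pick 1826 (.expl 567074 (c24n233) (.dead))

def c24n235 : SC := .pick 10402 (.expl 190626 (c24n234) (.dead))

def c24n236 : SC := .pick 5282 (.expl 5280930 (c24n235) (.dead))

def c24n237 : SC := .pick 930 (.expl 4459426 (c24n236) (.dead))

def c24n238 : SC := .pick 20578 (.expl 1265762 (c24n237) (.dead))

def c24n239 : SC := .pick 3170 (.expl 4271202 (c24n238) (.dead))

def c24n240 : SC := .pick 4706 (.expl 6820450 (c24n239) (.dead))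

def c24n241 : SC := .pick 32994 (.expl 884962 (c24n240) (.dead))

def c24n242 : SC := .pick 482 (.expl 3154402 (c24n241) (.dead))

def c24n243 : SC := .pick 26642 (.expl 3237906 (c24n242) (.dead))

def c24n244 : SC := .pick 70674 (.expl 6493202 (c24n243) (.dead))

def c24n245 : SC := .pick 10770 (.expl 4860434 (c24n244) (.dead))

def c24n246 : SC := .pick 5650 (.expl 1594898 (c24n245) (.dead))

def c24n247 : SC := .pick 18706 (.expl 837906 (c24n246) (.dead))

def c24n248 : SC := .pick 1682 (.expl 427666 (c24n247) (.dead))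

def c24n249 : SC := .pick 2450 (.expl 1186194 (c24n248) (.dead))

def c24n250 : SC := .pick 1426 (.expl 4220306 (c24n249) (.dead))

def c24n251 : SC := .pick 393298 (.expl 4063314 (c24n250) (.dead))

def c24n252 : SC := .pick 16978 (.expl 4538962 (c24n251) (.dead))

def c24n253 : SC := .pick 8530 (.expl 237906 (c24n252) (.dead))

def c24n254 : SC := .pick 4306 (.expl 2150610 (c24n253) (.dead))

def c24n255 : SC := .pick 41010 (.expl 6594610 (c24n254) (.dead))

def c24n256 : SC := .pick 65842 (.expl 5833010 (c24n255) (.dead))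

def c24n257 : SC := .pick 818 (.expl 2245426 (c24n256) (.dead))

def c24n258 : SC := .pick 1202 (.expl 2624690 (c24n257) (.dead))

def c24n259 : SC := .pick 690 (.expl 78514 (c24n258) (.dead))

def c24n260 : SC := .pick 626 (.expl 1084018 (c24n259) (.dead))

def c24n261 : SC := .pick 370 (.expl 267634 (c24n260) (.dead))

def c24n262 : SC := .pick 114698 (.expl 2605066 (c24n261) (.dead))

def c24n263 : SC := .pick 295434 (.expl 6062602 (c24n262) (.dead))

def c24n264 : SC := .pick 24842 (.expl 1728778 (c24n263) (.dead))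

def c24n265 : SC := .pick 3338 (.expl 4726026 (c24n264) (.dead))

def c24n266 : SC := .pick 8970 (.expl 6365962 (c24n265) (.dead))

def c24n267 : SC := .pick 69770 (.expl 3739786 (c24n266) (.dead))

def c24n268 : SC := .pick 4746 (.expl 4346506 (c24n267) (.dead))

def c24n269 : SC := .pick 1674 (.expl 1060490 (c24n268) (.dead))

def c24n270 : SC := .pick 4490 (.expl 307594 (c24n269) (.dead))

def c24n271 : SC := .pick 10314 (.expl 2664522 (c24n270) (.dead))

def c24n272 : SC := .pick 1610 (.expl 104010 (c24n271) (.dead))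

def c24n273 : SC := .pick 2378 (.expl 1378634 (c24n272) (.dead))

def c24n274 : SC := .pick 1226 (.expl 6554826 (c24n273) (.dead))

def c24n275 : SC := .pick 133162 (.expl 7473194 (c24n274) (.dead))

def c24n276 : SC := .pick 5162 (.expl 2126890 (c24n275) (.dead))

def c24n277 : SC := .pick 2602 (.expl 608810 (c24n276) (.dead))

def c24n278 : SC := .pick 426 (.expl 198058 (c24n277) (.dead))

def c24n279 : SC := .pick 618 (.expl 402026 (c24n278) (.dead))

def c24n280 : SC := .pick 362 (.expl 4243818 (c24n279) (.dead))

def c24n281 : SC := .pick 9242 (.expl 861210 (c24n280) (.dead))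

def c24n282 : SC := .pick 2586 (.expl 2365978 (c24n281) (.dead))

def c24n283 : SC := .pick 1306 (.expl 3179802 (c24n282) (.dead))

def c24n284 : SC := .pick 2202 (.expl 4294810 (c24n283) (.dead))

def c24n285 : SC := .pick 4186 (.expl 5255258 (c24n284) (.dead))

def c24n286 : SC := .pick 1114 (.expl 150618 (c24n285) (.dead))

def c24n287 : SC := .pick 218 (.expl 525274 (c24n286) (.dead))

def c24n288 : SC := .pick 4154 (.expl 692282 (c24n287) (.dead))

def c24n289 : SC := .pick 186 (.expl 1327290 (c24n288) (.dead))

def c24n290 : SC := .pick 37894 (.expl 2921478 (c24n289) (.dead))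

def c24n291 : SC := .pick 10758 (.expl 371206 (c24n290) (.dead))

def c24n292 : SC := .pick 18694 (.expl 4409606 (c24n291) (.dead))

def c24n293 : SC := .pick 5382 (.expl 1127686 (c24n292) (.dead))

def c24n294 : SC := .pick 2822 (.expl 3672838 (c24n293) (.dead))

def c24n295 : SC := .pick 6278 (.expl 6305926 (c24n294) (.dead))

def c24n296 : SC := .pick 17542 (.expl 3294342 (c24n295) (.dead))

def c24n297 : SC := .pick 1670 (.expl 4785798 (c24n296) (.dead))

def c24n298 : SC := .pick 98374 (.expl 7438406 (c24n297) (.dead))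

def c24n299 : SC := .pick 16966 (.expl 705094 (c24n298) (.dead))

def c24n300 : SC := .pick 8518 (.expl 4989254 (c24n299) (.dead))

def c24n301 : SC := .pick 710 (.expl 1315526 (c24n300) (.dead))

def c24n302 : SC := .pick 454 (.expl 36294 (c24n301) (.dead))

def c24n303 : SC := .pick 73766 (.expl 2826278 (c24n302) (.dead))

def c24n304 : SC := .pick 8742 (.expl 5268006 (c24n303) (.dead))

def c24n305 : SC := .pick 1574 (.expl 138790 (c24n304) (.dead))

def c24n306 : SC := .pick 33062 (.expl 1474854 (c24n305) (.dead))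

def c24n307 : SC := .pick 422 (.expl 545190 (c24n306) (.dead))

def c24n308 : SC := .pick 2150 (.expl 2377830 (c24n307) (.dead))

def c24n309 : SC := .pick 12310 (.expl 421910 (c24n308) (.dead))

def c24n310 : SC := .pick 3094 (.expl 5508118 (c24n309) (.dead))

def c24n311 : SC := .pick 790 (.expl 4231958 (c24n310) (.dead))

def c24n312 : SC := .pick 8342 (.expl 1613974 (c24n311) (.dead))

def c24n313 : SC := .pick 406 (.expl 2425238 (c24n312) (.dead))

def c24n314 : SC := .pick 2134 (.expl 596054 (c24n313) (.dead))

def c24n315 : SC := .pick 598 (.expl 2106966 (c24n314) (.dead))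

def c24n316 : SC := .pick 1078 (.expl 115766 (c24n315) (.dead))

def c24n317 : SC := .pick 118 (.expl 4325622 (c24n316) (.dead))

def c24n318 : SC := .pick 6158 (.expl 1103886 (c24n317) (.dead))

def c24n319 : SC := .pick 9230 (.expl 4367374 (c24n318) (.dead))

def c24n320 : SC := .pick 782 (.expl 280334 (c24n319) (.dead))

def c24n321 : SC := .pick 2190 (.expl 919694 (c24n320) (.dead))

def c24n322 : SC := .pick 334 (.expl 2232654 (c24n321) (.dead))

def c24n323 : SC := .pick 206 (.expl 90318 (c24n322) (.dead))

def c24n324 : SC := .pick 4142 (.expl 4526126 (c24n323) (.dead))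

def c24n325 : SC := .pick 174 (.expl 2130606 (c24n324) (.dead))

def c24n326 : SC := .pick 110 (.expl 1573998 (c24n325) (.dead))

def c24n327 : SC := .pick 16414 (.expl 6832158 (c24n326) (.dead))

def c24n328 : SC := .pick 542 (.expl 1245726 (c24n327) (.dead))

def c24n329 : SC := .pick 62 (.expl 10558 (c24n328) (.dead))

def c24n330 : SC := .pick 30721 (.expl 2422785 (c24n329) (.dead))

def c24n331 : SC := .pick 427009 (.expl 7767041 (c24n330) (.dead))

def c24n332 : SC := .pick 50689 (.expl 902657 (c24n331) (.dead))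

def c24n333 : SC := .pick 22785 (.expl 1661185 (c24n332) (.dead))

def c24n334 : SC := .pick 75009 (.expl 4924673 (c24n333) (.dead))

def c24n335 : SC := .pick 6913 (.expl 6429441 (c24n334) (.dead))

def c24n336 : SC := .pick 9985 (.expl 3172097 (c24n335) (.dead))

def c24n337 : SC := .pick 141441 (.expl 3811457 (c24n336) (.dead))

def c24n338 : SC := .pick 21633 (.expl 6837377 (c24n337) (.dead))

def c24n339 : SC := .pick 10881 (.expl 4287105 (c24n338) (.dead))

def c24n340 : SC := .pick 5761 (.expl 1250945 (c24n339) (.dead))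

def c24n341 : SC := .pick 35201 (.expl 493953 (c24n340) (.dead))

def c24n342 : SC := .pick 102465 (.expl 2854977 (c24n341) (.dead))

def c24n343 : SC := .pick 21057 (.expl 5296705 (c24n342) (.dead))

def c24n344 : SC := .pick 3649 (.expl 175681 (c24n343) (.dead))

def c24n345 : SC := .pick 12609 (.expl 1454401 (c24n344) (.dead))

def c24n346 : SC := .pick 3393 (.expl 4476225 (c24n345) (.dead))

def c24n347 : SC := .pick 82113 (.expl 3489985 (c24n346) (.dead))

def c24n348 : SC := .pick 131777 (.expl 5112513 (c24n347) (.dead))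

def c24n349 : SC := .pick 8641 (.expl 582081 (c24n348) (.dead))

def c24n350 : SC := .pick 77857 (.expl 7417889 (c24n349) (.dead))

def c24n351 : SC := .pick 19489 (.expl 2313249 (c24n350) (.dead))

def c24n352 : SC := .pick 12833 (.expl 684577 (c24n351) (.dead))

def c24n353 : SC := .pick 3617 (.expl 5770785 (c24n352) (.dead))

def c24n354 : SC := .pick 37153 (.expl 5017889 (c24n353) (.dead))

def c24n355 : SC := .pick 8865 (.expl 1352353 (c24n354) (.dead))

def c24n356 : SC := .pick 16801 (.expl 5390753 (c24n355) (.dead))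

def c24n357 : SC := .pick 1441 (.expl 15777 (c24n356) (.dead))

def c24n358 : SC := .pick 929 (.expl 2687905 (c24n357) (.dead))

def c24n359 : SC := .pick 9313 (.expl 2892897 (c24n358) (.dead))

def c24n360 : SC := .pick 2657 (.expl 334433 (c24n359) (.dead))

def c24n361 : SC := .pick 1377 (.expl 1148257 (c24n360) (.dead))

def c24n362 : SC := .pick 2273 (.expl 6326497 (c24n361) (.dead))

def c24n363 : SC := .pick 286737 (.expl 6053905 (c24n362) (.dead))

def c24n364 : SC := .pick 7185 (.expl 924689 (c24n363) (.dead))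

def c24n365 : SC := .pick 74257 (.expl 2564625 (c24n364) (.dead))

def c24n366 : SC := .pick 49425 (.expl 6406417 (c24n365) (.dead))

def c24n367 : SC := .pick 33553 (.expl 1737489 (c24n366) (.dead))

def c24n368 : SC := .pick 12433 (.expl 4370577 (c24n367) (.dead))

def c24n369 : SC := .pick 3217 (.expl 1100945 (c24n368) (.dead))

def c24n370 : SC := .pick 913 (.expl 283537 (c24n369) (.dead))

def c24n371 : SC := .pick 67665 (.expl 5441617 (c24n370) (.dead))

def c24n372 : SC := .pick 5201 (.expl 95313 (c24n371) (.dead))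

def c24n373 : SC := .pick 2641 (.expl 2640465 (c24n372) (.dead))

def c24n374 : SC := .pick 465 (.expl 2229713 (c24n373) (.dead))

def c24n375 : SC := .pick 10289 (.expl 632881 (c24n374) (.dead))

def c24n376 : SC := .pick 1585 (.expl 2135601 (c24n375) (.dead))

def c24n377 : SC := .pick 2353 (.expl 3410225 (c24n376) (.dead))

def c24n378 : SC := .pick 1201 (.expl 4523185 (c24n377) (.dead))

def c24n379 : SC := .pick 16497 (.expl 442481 (c24n378) (.dead))

def c24n380 : SC := .pick 369 (.expl 4203377 (c24n379) (.dead))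

def c24n381 : SC := .pick 241 (.expl 1577201 (c24n380) (.dead))

def c24n382 : SC := .pick 51209 (.expl 4900873 (c24n381) (.dead))

def c24n383 : SC := .pick 13321 (.expl 1618953 (c24n382) (.dead))

def c24n384 : SC := .pick 35337 (.expl 3246601 (c24n383) (.dead))

def c24n385 : SC := .pick 5385 (.expl 2430217 (c24n384) (.dead))

def c24n386 : SC := .pick 2825 (.expl 797449 (c24n385) (.dead))

def c24n387 : SC := .pick 6281 (.expl 5511305 (c24n386) (.dead))

def c24n388 : SC := .pick 9353 (.expl 418953 (c24n387) (.dead))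

def c24n389 : SC := .pick 905 (.expl 4229001 (c24n388) (.dead))

def c24n390 : SC := .pick 41033 (.expl 4563017 (c24n389) (.dead))

def c24n391 : SC := .pick 524617 (.expl 7864649 (c24n390) (.dead))

def c24n392 : SC := .pick 841 (.expl 213833 (c24n391) (.dead))

def c24n393 : SC := .pick 1225 (.expl 593097 (c24n392) (.dead))

def c24n394 : SC := .pick 713 (.expl 2110153 (c24n393) (.dead))

def c24n395 : SC := .pick 196649 (.expl 2031657 (c24n394) (.dead))

def c24n396 : SC := .pick 16937 (.expl 6570537 (c24n395) (.dead))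

def c24n397 : SC := .pick 8489 (.expl 2269481 (c24n396) (.dead))

def c24n398 : SC := .pick 4265 (.expl 118953 (c24n397) (.dead))

def c24n399 : SC := .pick 2153 (.expl 1075305 (c24n398) (.dead))

def c24n400 : SC := .pick 1129 (.expl 4330601 (c24n399) (.dead))

def c24n401 : SC := .pick 20505 (.expl 3297305 (c24n400) (.dead))

def c24n402 : SC := .pick 3097 (.expl 6302745 (c24n401) (.dead))

def c24n403 : SC := .pick 4633 (.expl 4788761 (c24n402) (.dead))

def c24n404 : SC := .pick 32921 (.expl 2916505 (c24n403) (.dead))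

def c24n405 : SC := .pick 409 (.expl 1122713 (c24n404) (.dead))

def c24n406 : SC := .pick 601 (.expl 1312345 (c24n405) (.dead))

def c24n407 : SC := .pick 345 (.expl 39257 (c24n406) (.dead))

def c24n408 : SC := .pick 313 (.expl 542009 (c24n407) (.dead))

def c24n409 : SC := .pick 185 (.expl 133817 (c24n408) (.dead))

def c24n410 : SC := .pick 57349 (.expl 1302533 (c24n409) (.dead))

def c24n411 : SC := .pick 7173 (.expl 4299781 (c24n410) (.dead))

def c24n412 : SC := .pick 41477 (.expl 6857221 (c24n411) (.dead))

def c24n413 : SC := .pick 147717 (.expl 3031301 (c24n412) (.dead))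

def c24n414 : SC := .pick 66309 (.expl 5571333 (c24n413) (.dead))

def c24n415 : SC := .pick 12421 (.expl 864389 (c24n414) (.dead))

def c24n416 : SC := .pick 1669 (.expl 2363013 (c24n415) (.dead))

def c24n417 : SC := .pick 4485 (.expl 3182981 (c24n416) (.dead))

def c24n418 : SC := .pick 34885 (.expl 1869893 (c24n417) (.dead))

def c24n419 : SC := .pick 2373 (.expl 2173253 (c24n418) (.dead))

def c24n420 : SC := .pick 837 (.expl 530245 (c24n419) (.dead))

def c24n421 : SC := .pick 2245 (.expl 153797 (c24n420) (.dead))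

def c24n422 : SC := .pick 1221 (.expl 5252293 (c24n421) (.dead))

def c24n423 : SC := .pick 10277 (.expl 4597797 (c24n422) (.dead))

def c24n424 : SC := .pick 5157 (.expl 1332261 (c24n423) (.dead))

def c24n425 : SC := .pick 805 (.expl 52005 (c24n424) (.dead))

def c24n426 : SC := .pick 1189 (.expl 689317 (c24n425) (.dead))

def c24n427 : SC := .pick 16485 (.expl 4800613 (c24n426) (.dead))

def c24n428 : SC := .pick 613 (.expl 3277413 (c24n427) (.dead))

def c24n429 : SC := .pick 66581 (.expl 3736597 (c24n428) (.dead))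

def c24n430 : SC := .pick 2581 (.expl 1063445 (c24n429) (.dead))

def c24n431 : SC := .pick 1557 (.expl 4343317 (c24n430) (.dead))

def c24n432 : SC := .pick 1301 (.expl 304405 (c24n431) (.dead))

def c24n433 : SC := .pick 405 (.expl 4721045 (c24n432) (.dead))

def c24n434 : SC := .pick 4181 (.expl 6557781 (c24n433) (.dead))

def c24n435 : SC := .pick 213 (.expl 99029 (c24n434) (.dead))

def c24n436 : SC := .pick 309 (.expl 201013 (c24n435) (.dead))

def c24n437 : SC := .pick 181 (.expl 2121909 (c24n436) (.dead))

def c24n438 : SC := .pick 4621 (.expl 430605 (c24n437) (.dead))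

def c24n439 : SC := .pick 4365 (.expl 4223245 (c24n438) (.dead))

def c24n440 : SC := .pick 1293 (.expl 1182989 (c24n439) (.dead))

def c24n441 : SC := .pick 65677 (.expl 6488205 (c24n440) (.dead))

def c24n442 : SC := .pick 653 (.expl 1589901 (c24n441) (.dead))

def c24n443 : SC := .pick 1101 (.expl 2147405 (c24n442) (.dead))

def c24n444 : SC := .pick 2093 (.expl 2627629 (c24n443) (.dead))

def c24n445 : SC := .pick 557 (.expl 75309 (c24n444) (.dead))

def c24n446 : SC := .pick 109 (.expl 262637 (c24n445) (.dead))

def c24n447 : SC := .pick 2077 (.expl 346141 (c24n446) (.dead))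

def c24n448 : SC := .pick 93 (.expl 663645 (c24n447) (.dead))

def c24n449 : SC := .pick 61 (.expl 5275709 (c24n448) (.dead))

def c24n450 : SC := .pick 329731 (.expl 7145475 (c24n449) (.dead))

def c24n451 : SC := .pick 18947 (.expl 1460739 (c24n450) (.dead))

def c24n452 : SC := .pick 5635 (.expl 4470275 (c24n451) (.dead))

def c24n453 : SC := .pick 10499 (.expl 5286147 (c24n452) (.dead))

def c24n454 : SC := .pick 5379 (.expl 185603 (c24n453) (.dead))

def c24n455 : SC := .pick 9347 (.expl 2204803 (c24n454) (.dead))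

def c24n456 : SC := .pick 2691 (.expl 563843 (c24n455) (.dead))

def c24n457 : SC := .pick 1411 (.expl 1836419 (c24n456) (.dead))

def c24n458 : SC := .pick 24643 (.expl 6447171 (c24n457) (.dead))

def c24n459 : SC := .pick 3139 (.expl 3152963 (c24n458) (.dead))

def c24n460 : SC := .pick 8771 (.expl 1647171 (c24n459) (.dead))

def c24n461 : SC := .pick 835 (.expl 2392899 (c24n460) (.dead))

def c24n462 : SC := .pick 451 (.expl 4264387 (c24n461) (.dead))

def c24n463 : SC := .pick 49187 (.expl 3719203 (c24n462) (.dead))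

def c24n464 : SC := .pick 33315 (.expl 4424227 (c24n463) (.dead))

def c24n465 : SC := .pick 8483 (.expl 352547 (c24n464) (.dead))

def c24n466 : SC := .pick 4259 (.expl 2494627 (c24n465) (.dead))

def c24n467 : SC := .pick 355 (.expl 657763 (c24n466) (.dead))

def c24n468 : SC := .pick 227 (.expl 18147 (c24n467) (.dead))

def c24n469 : SC := .pick 36883 (.expl 1413139 (c24n468) (.dead))

def c24n470 : SC := .pick 4371 (.expl 2634003 (c24n469) (.dead))

def c24n471 : SC := .pick 787 (.expl 69395 (c24n470) (.dead))

def c24n472 : SC := .pick 16531 (.expl 737427 (c24n471) (.dead))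

def c24n473 : SC := .pick 659 (.expl 7340691 (c24n472) (.dead))

def c24n474 : SC := .pick 1107 (.expl 4752467 (c24n473) (.dead))

def c24n475 : SC := .pick 211 (.expl 272595 (c24n474) (.dead))

def c24n476 : SC := .pick 2099 (.expl 4216883 (c24n475) (.dead))

def c24n477 : SC := .pick 1075 (.expl 1188915 (c24n476) (.dead))

def c24n478 : SC := .pick 6155 (.expl 210955 (c24n477) (.dead))

def c24n479 : SC := .pick 17419 (.expl 5325835 (c24n478) (.dead))

def c24n480 : SC := .pick 1547 (.expl 2754059 (c24n479) (.dead))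

def c24n481 : SC := .pick 395 (.expl 2115979 (c24n480) (.dead))

def c24n482 : SC := .pick 4171 (.expl 806987 (c24n481) (.dead))

def c24n483 : SC := .pick 203 (.expl 1212619 (c24n482) (.dead))

def c24n484 : SC := .pick 1067 (.expl 298027 (c24n483) (.dead))

def c24n485 : SC := .pick 299 (.expl 1053483 (c24n484) (.dead))

def c24n486 : SC := .pick 171 (.expl 4726955 (c24n485) (.dead))

def c24n487 : SC := .pick 539 (.expl 57883 (c24n486) (.dead))

def c24n488 : SC := .pick 283 (.expl 4587803 (c24n487) (.dead))

def c24n489 : SC := .pick 59 (.expl 2162811 (c24n488) (.dead))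

def c24n490 : SC := .pick 135175 (.expl 5902343 (c24n489) (.dead))

def c24n491 : SC := .pick 3079 (.expl 551943 (c24n490) (.dead))

def c24n492 : SC := .pick 4615 (.expl 2183687 (c24n491) (.dead))

def c24n493 : SC := .pick 16519 (.expl 4505735 (c24n492) (.dead))

def c24n494 : SC := .pick 391 (.expl 140167 (c24n493) (.dead))

def c24n495 : SC := .pick 1095 (.expl 459847 (c24n494) (.dead))

def c24n496 : SC := .pick 295 (.expl 6292775 (c24n495) (.dead))

def c24n497 : SC := .pick 167 (.expl 1116327 (c24n496) (.dead))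

def c24n498 : SC := .pick 103 (.expl 45159 (c24n497) (.dead))

def c24n499 : SC := .pick 2071 (.expl 2263063 (c24n498) (.dead))

def c24n500 : SC := .pick 87 (.expl 1065303 (c24n499) (.dead))

def c24n501 : SC := .pick 55 (.expl 786999 (c24n500) (.dead))

def c24n502 : SC := .pick 8207 (.expl 3416079 (c24n501) (.dead))

def c24n503 : SC := .pick 271 (.expl 622863 (c24n502) (.dead))

def c24n504 : SC := .pick 79 (.expl 4196943 (c24n503) (.dead))

def c24n505 : SC := .pick 31 (.expl 5279 (c24n504) (.dead))

def c24 : SC := c24n505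

end CfsgLib.StCert.W24
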